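import Mathlib
import Cfsg.Prelude.Def_ParabolicCharacters
import Cfsg.Agent.Lib.GL2Classes
import Cfsg.Agent.Lib.SL2Centralizer
import Cfsg.Agent.Lib.SL2Char.Elements

/-!
Elements of `GL₂(q)` for the character table, and a cyclic subgroup of order `q² - 1`.
-/

set_option autoImplicit false

namespace CfsgLib.GL2Char

open Matrix
open scoped Classical

variable {F : Type*} [Field F]

local notation "M2" => Matrix (Fin 2) (Fin 2) F
local notation "GL2" => Matrix.GeneralLinearGroup (Fin 2) F

/-- The Borel subgroup. -/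
abbrev borel (F : Type*) [Field F] : Subgroup (Matrix.GeneralLinearGroup (Fin 2) F) :=
  Cfsg.upperTriangularGL 2 F

theorem mem_borel {g : GL2} : g ∈ borel F ↔ g.1 1 0 = 0 := by
  show (g.1).BlockTriangular id ↔ _
  constructor
  · intro h
    exact h (show id (0 : Fin 2) < id 1 by decide)
  · intro h i j hij
    fin_cases i <;> fin_cases j <;> first | exact h | simp at hij

/-- The element `(a x; 0 b)`. -/
def bor (a b : Fˣ) (x : F) : GL2 :=
  Matrix.GeneralLinearGroup.mkOfDetNeZero !![(a : F), x; 0, (b : F)] (by simp [Matrix.det_fin_two])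

@[simp] theorem bor_coe (a b : Fˣ) (x : F) : (bor a b x).1 = !![(a : F), x; 0, (b : F)] := rfl

theorem bor_mem (a b : Fˣ) (x : F) : bor a b x ∈ borel F := mem_borel.mpr (by simp)

theorem bor_mul (a b c d : Fˣ) (x y : F) :
    bor a b x * bor c d y = bor (a * c) (b * d) ((a : F) * y + x * (d : F)) := by
  apply Units.ext
  show (bor a b x).1 * (bor c d y).1 = _
  simp [Matrix.mul_fin_two]

theorem bor_one : bor (1 : Fˣ) (1 : Fˣ) (0 : F) = 1 := Units.ext (by simp [Matrix.one_fin_two])

theorem bor_injective {a b c d : Fˣ} {x y : F} (h : bor a b x = bor c d y) : a = c ∧ b = d ∧ x = y := by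
  have h' := congrArg Units.val h
  exact ⟨Units.ext (by simpa using congrFun (congrFun h' 0) 0),
    Units.ext (by simpa using congrFun (congrFun h' 1) 1), by simpa using congrFun (congrFun h' 0) 1⟩

theorem det_eq (g : GL2) : g.1 0 0 * g.1 1 1 - g.1 0 1 * g.1 1 0 = g.1.det :=
  (Matrix.det_fin_two g.1).symm

theorem det_ne (g : GL2) : g.1.det ≠ 0 :=
  ((Matrix.isUnit_iff_isUnit_det _).mp g.isUnit).ne_zero

/-- Coordinates on the Borel subgroup. -/
noncomputable def equivBorel : borel F ≃ Fˣ × Fˣ × F where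
  toFun g := (Units.mk0 (g.1.1 0 0) (fun h => det_ne g.1 (by
      rw [← det_eq, h, mem_borel.mp g.2]; ring)),
    Units.mk0 (g.1.1 1 1) (fun h => det_ne g.1 (by
      rw [← det_eq, h, mem_borel.mp g.2]; ring)), g.1.1 0 1)
  invFun p := ⟨bor p.1 p.2.1 p.2.2, bor_mem _ _ _⟩
  left_inv g := by
    have h10 := mem_borel.mp g.2
    refine Subtype.ext (Units.ext ?_)
    ext i j
    fin_cases i <;> fin_cases j <;> simp [h10]
  right_inv p := by ext <;> simp

theorem eq_bor_of_lower {g : GL2} (h10 : g.1 1 0 = 0) :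
    ∃ (a b : Fˣ) (x : F), (a : F) = g.1 0 0 ∧ (b : F) = g.1 1 1 ∧ x = g.1 0 1 ∧ g = bor a b x :=
  ⟨_, _, _, rfl, rfl, rfl,
    (congrArg Subtype.val (equivBorel.symm_apply_apply ⟨g, mem_borel.mpr h10⟩)).symm⟩

theorem card_borel [Fintype F] :
    Nat.card (borel F) = (Fintype.card F - 1) * ((Fintype.card F - 1) * Fintype.card F) := by
  rw [Nat.card_congr equivBorel, Nat.card_prod, Nat.card_prod, Nat.card_units, Nat.card_eq_fintype_card]

theorem sum_borel [Fintype F] [Fintype (borel F)] {M : Type*} [AddCommMonoid M] (h : GL2 → M) :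
    ∑ g : borel F, h g = ∑ a : Fˣ, ∑ b : Fˣ, ∑ x : F, h (bor a b x) := by
  rw [Fintype.sum_equiv equivBorel (fun g : borel F => h g)
    (fun p : Fˣ × Fˣ × F => h (bor p.1 p.2.1 p.2.2)) (fun g => ?_), Fintype.sum_prod_type]
  · exact Finset.sum_congr rfl fun a _ => Fintype.sum_prod_type _
  · congr 1
    exact (congrArg Subtype.val (equivBorel.symm_apply_apply g)).symm

/-- No eigenvalue in `F`. -/
def Ell (g : GL2) : Prop := ∀ s : F, s * s - g.1.trace * s + g.1.det ≠ 0

theorem det_sub_smul (g : GL2) (s : F) :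
    (g.1 - s • (1 : M2)).det = s * s - g.1.trace * s + g.1.det := by
  simp [Matrix.det_fin_two, Matrix.trace_fin_two]; ring

theorem noEigen_iff (g : GL2) :
    (∀ (c : F) (v : Fin 2 → F), v ≠ 0 → g.1.mulVec v ≠ c • v) ↔ Ell g := by
  constructor
  · intro h s hs
    rw [← det_sub_smul] at hs
    obtain ⟨v, hv, hv'⟩ := Matrix.exists_mulVec_eq_zero_iff.mpr hs
    refine h s v hv ?_
    rwa [Matrix.sub_mulVec, Matrix.smul_mulVec, Matrix.one_mulVec, sub_eq_zero] at hv'
  · intro h c v hv e
    apply h c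
    rw [← det_sub_smul]
    refine Matrix.exists_mulVec_eq_zero_iff.mp ⟨v, hv, ?_⟩
    rw [Matrix.sub_mulVec, Matrix.smul_mulVec, Matrix.one_mulVec, sub_eq_zero, e]

theorem trace_bor (a b : Fˣ) (x : F) : (bor a b x).1.trace = (a : F) + (b : F) := by
  simp [Matrix.trace_fin_two]

theorem det_bor (a b : Fˣ) (x : F) : (bor a b x).1.det = (a : F) * (b : F) := by
  simp [Matrix.det_fin_two]

theorem not_ell_bor (a b : Fˣ) (x : F) : ¬ Ell (bor a b x) := fun h => h (a : F) (by
  rw [trace_bor, det_bor]; ring)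

theorem trace_conj (g h : GL2) : (h * g * h⁻¹).1.trace = g.1.trace := by
  rw [Units.val_mul, Matrix.trace_mul_comm, ← Units.val_mul, inv_mul_cancel_left]

theorem det_conj (g h : GL2) : (h * g * h⁻¹).1.det = g.1.det := by
  have e : (h⁻¹).1.det * h.1.det = 1 := by
    rw [← Matrix.det_mul, ← Units.val_mul, inv_mul_cancel, Units.val_one, Matrix.det_one]
  rw [Units.val_mul, Units.val_mul, Matrix.det_mul, Matrix.det_mul]
  linear_combination g.1.det * e

theorem ell_of_isConj {g g' : GL2} (h : IsConj g g') (hg : Ell g) : Ell g' := by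
  obtain ⟨x, rfl⟩ := isConj_iff.mp h
  intro s
  rw [trace_conj, det_conj]
  exact hg s

theorem not_scalar_of_ell {g : GL2} (hg : Ell g) (a : F) : g.1 ≠ a • (1 : M2) := fun h => hg a (by
  rw [h]; simp [Matrix.trace_fin_two, Matrix.det_fin_two]; ring)

theorem bor_ne_scalar {a b : Fˣ} {x : F} (h : a ≠ b ∨ x ≠ 0) (c : F) :
    (bor a b x).1 ≠ c • (1 : M2) := by
  intro e
  have e00 : (a : F) = c := by simpa using congrFun (congrFun e 0) 0
  have e01 : x = 0 := by simpa using congrFun (congrFun e 0) 1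
  have e11 : (b : F) = c := by simpa using congrFun (congrFun e 1) 1
  rcases h with h | h
  · exact h (Units.ext (e00.trans e11.symm))
  · exact h e01

/-- Non-scalar matrices with the same characteristic polynomial are conjugate. -/
theorem isConj_of_charpoly {g h : GL2} (hg : ∀ a : F, g.1 ≠ a • (1 : M2))
    (hh : ∀ a : F, h.1 ≠ a • (1 : M2)) (et : h.1.trace = g.1.trace) (ed : h.1.det = g.1.det) :
    IsConj g h := by
  obtain ⟨P, hP⟩ := GL2Classes.exists_conj_comp hg
  obtain ⟨R, hR⟩ := GL2Classes.exists_conj_comp hh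
  rw [et, ed] at hR
  refine isConj_iff.mpr ⟨R * P⁻¹, ?_⟩
  rw [mul_inv_eq_iff_eq_mul]
  refine Units.ext ?_
  have hPi : (P⁻¹).1 * g.1 = GL2Classes.comp g.1.trace g.1.det * (P⁻¹).1 := by
    calc (P⁻¹).1 * g.1 = (P⁻¹).1 * (g.1 * P.1) * (P⁻¹).1 := by simp [Matrix.mul_assoc]
      _ = _ := by rw [hP]; simp [← Matrix.mul_assoc]
  simp only [Units.val_mul]
  rw [Matrix.mul_assoc, hPi, ← Matrix.mul_assoc, ← Matrix.mul_assoc h.1, hR]

theorem isConj_bor_zero {a b : Fˣ} (hab : a ≠ b) (x : F) : IsConj (bor a b x) (bor a b 0) :=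
  isConj_of_charpoly (bor_ne_scalar (Or.inl hab)) (bor_ne_scalar (Or.inl hab))
    (by rw [trace_bor, trace_bor]) (by rw [det_bor, det_bor])

theorem scalar_comm (a : Fˣ) (g : GL2) : Commute (bor a a 0) g := by
  apply Units.ext
  simp only [Units.val_mul, bor_coe]
  ext i j
  fin_cases i <;> fin_cases j <;> simp [Matrix.mul_apply, Fin.sum_univ_two, mul_comm]

theorem scalar_conj_eq {a : Fˣ} {g : GL2} (h : IsConj (bor a a 0) g) : g = bor a a 0 := by
  obtain ⟨x, rfl⟩ := isConj_iff.mp h
  rw [← (scalar_comm a x).eq, mul_inv_cancel_right]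

theorem isConj_bor_of_eigen {g : GL2} (hg : ¬ Ell g) :
    ∃ (a b : Fˣ) (x : F), IsConj g (bor a b x) := by
  rw [← noEigen_iff] at hg
  push Not at hg
  obtain ⟨c, v, hv, e⟩ := hg
  obtain ⟨P, hP⟩ : ∃ P : GL2, ∀ i, P.1 i 0 = v i := by
    by_cases h0 : v 0 = 0
    · have h1 : v 1 ≠ 0 := fun h1 => hv (funext fun i => by fin_cases i <;> simp [h0, h1])
      refine ⟨Matrix.GeneralLinearGroup.mkOfDetNeZero !![v 0, -(v 1)⁻¹; v 1, 0]
        (by simp [Matrix.det_fin_two, h1]), fun i => ?_⟩
      fin_cases i <;> rfl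
    · refine ⟨Matrix.GeneralLinearGroup.mkOfDetNeZero !![v 0, 0; v 1, (v 0)⁻¹]
        (by simp [Matrix.det_fin_two, h0]), fun i => ?_⟩
      fin_cases i <;> rfl
  have hB : (P⁻¹ * g * P).1 1 0 = 0 := by
    have hgP : (g.1 * P.1) * !![(1 : F); 0] = c • (P.1 * !![(1 : F); 0]) := by
      ext i j
      fin_cases j
      have e' := congrFun e i
      simp [Matrix.mulVec, dotProduct, Fin.sum_univ_two] at e'
      fin_cases i <;> simp [Matrix.mul_apply, Fin.sum_univ_two, hP] <;> simpa using e'
    have h1 : (P⁻¹).1 * ((g.1 * P.1) * !![(1 : F); 0]) = c • !![(1 : F); 0] := by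
      rw [hgP, Matrix.mul_smul, ← Matrix.mul_assoc, ← Units.val_mul, inv_mul_cancel, Units.val_one,
        Matrix.one_mul]
    have h2 := congrFun (congrFun h1 1) 0
    rw [← Matrix.mul_assoc, ← Matrix.mul_assoc] at h2
    simpa [Matrix.mul_apply, Fin.sum_univ_two] using h2
  obtain ⟨a, b, x, -, -, -, h'⟩ := eq_bor_of_lower hB
  exact ⟨a, b, x, isConj_iff.mpr ⟨P⁻¹, by rw [inv_inv, h']⟩⟩

theorem elem_cases (g : GL2) : Ell g ∨ ∃ (a b : Fˣ) (x : F), IsConj g (bor a b x) :=
  (em (Ell g)).imp id isConj_bor_of_eigen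

theorem cayley (g : GL2) : g.1 * g.1 = g.1.trace • g.1 - g.1.det • (1 : M2) := by
  ext i j
  fin_cases i <;> fin_cases j <;>
    simp [Matrix.mul_apply, Fin.sum_univ_two, Matrix.trace_fin_two, Matrix.det_fin_two] <;> ring

theorem det_lin (g : GL2) (x y : F) :
    (x • (1 : M2) + y • g.1).det = x * x + g.1.trace * x * y + g.1.det * (y * y) := by
  simp [Matrix.det_fin_two, Matrix.trace_fin_two]; ring

theorem lin_det_ne {g : GL2} (hg : Ell g) {x y : F} (h : x ≠ 0 ∨ y ≠ 0) :
    (x • (1 : M2) + y • g.1).det ≠ 0 := by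
  rw [det_lin]
  intro e
  by_cases hy : y = 0
  · rw [hy] at e h
    have : x * x = 0 := by linear_combination e
    exact h.elim (fun hx => hx (mul_self_eq_zero.mp this)) (fun h => h rfl)
  · apply hg (-x / y)
    field_simp
    linear_combination e

section Fin

variable [Fintype F]

theorem card_GL2 : Nat.card GL2 = (Fintype.card F ^ 2 - 1) * (Fintype.card F ^ 2 - Fintype.card F) := by
  rw [Matrix.card_GL_field, Fin.prod_univ_two]
  simp

theorem card_centralizer_ell_le {g : GL2} (hg : Ell g) :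
    Nat.card (Subgroup.centralizer ({g} : Set GL2)) ≤ Fintype.card F ^ 2 - 1 := by
  have hch : ∀ y : Subgroup.centralizer ({g} : Set GL2), ∃ p : F × F,
      p ≠ 0 ∧ y.1.1 = p.1 • (1 : M2) + p.2 • g.1 := by
    intro y
    have hc : Commute y.1.1 g.1 :=
      congrArg Units.val (Subgroup.mem_centralizer_singleton_iff.mp y.2)
    obtain ⟨u, v, huv⟩ := SL2Centralizer.exists_of_commute (not_scalar_of_ell hg) hc
    refine ⟨(u, v), fun h => det_ne y.1 ?_, huv⟩
    rw [Prod.mk_eq_zero] at h
    rw [huv, h.1, h.2]; simp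
  choose p hp0 hpy using hch
  have hcard : Nat.card {z : F × F // z ≠ 0} = Fintype.card F ^ 2 - 1 := by
    rw [Nat.card_eq_fintype_card, Fintype.card_subtype_compl, Fintype.card_subtype_eq, Fintype.card_prod, sq]
  rw [← hcard]
  refine Nat.card_le_card_of_injective (fun y => (⟨p y, hp0 y⟩ : {z : F × F // z ≠ 0})) fun y z h => ?_
  apply Subtype.ext
  apply Units.ext
  rw [hpy y, hpy z, show p y = p z from congrArg Subtype.val h]

variable (C : Subgroup (Matrix.GeneralLinearGroup (Fin 2) F)) (hC : IsCyclic C)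
variable (hcard : Nat.card C = Fintype.card F ^ 2 - 1) (hZ : ∀ a : Fˣ, bor a a 0 ∈ C)

include hC hcard hZ in
theorem torus_cases {c : GL2} (hc : c ∈ C) : Ell c ∨ ∃ a : Fˣ, c = bor a a 0 := by
  refine (em (Ell c)).imp id fun hn => ?_
  obtain ⟨a, b, x, hconj⟩ := isConj_bor_of_eigen hn
  have hq := Fintype.one_lt_card (α := F)
  by_cases hab : a = b
  · subst hab
    have hsplit : ∀ n : ℕ, (bor a a x) ^ n = bor (a ^ n) (a ^ n) ((n : F) * ((a ^ n : Fˣ) : F) * ((a⁻¹ : Fˣ) : F) * x) := by
      intro n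
      induction n with
      | zero => simp [bor_one]
      | succ n ih =>
        rw [pow_succ, ih, bor_mul, ← pow_succ]
        congr 1
        rw [pow_succ, Units.val_mul, Nat.cast_succ]
        simp only [Units.val_pow_eq_pow_val]
        linear_combination (-(((a : F) ^ n) * x)) * a.mul_inv
    have hpow : (bor a a x) ^ (Fintype.card F ^ 2 - 1) = 1 := by
      obtain ⟨y, hy⟩ := isConj_iff.mp hconj
      rw [← hy, conj_pow, ← hcard]
      have : c ^ Nat.card C = 1 := congrArg Subtype.val (pow_card_eq_one' (G := C) (x := ⟨c, hc⟩))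
      rw [this, mul_one, mul_inv_cancel]
    rw [hsplit, ← bor_one] at hpow
    have h := (bor_injective hpow).2.2
    have hcast : ((Fintype.card F ^ 2 - 1 : ℕ) : F) = -1 := by
      rw [Nat.cast_sub (Nat.one_le_pow _ _ Fintype.card_pos), Nat.cast_pow, FiniteField.cast_card_eq_zero]
      simp
    rw [hcast] at h
    have hx : x = 0 := by simpa using h
    subst hx
    exact ⟨a, scalar_conj_eq hconj.symm⟩
  · exfalso
    have hpow : c ^ (Fintype.card F - 1) = 1 := by
      obtain ⟨y, hy⟩ := isConj_iff.mp (hconj.trans (isConj_bor_zero hab x))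
      have hb : ∀ n : ℕ, (bor a b 0) ^ n = bor (a ^ n) (b ^ n) 0 := by
        intro n
        induction n with
        | zero => simp [bor_one]
        | succ n ih => rw [pow_succ, ih, bor_mul, ← pow_succ, ← pow_succ]; simp
      have h1 : ∀ u : Fˣ, u ^ (Fintype.card F - 1) = 1 := fun u => by
        rw [← Fintype.card_units]; exact pow_card_eq_one
      have hyc : (y * c * y⁻¹) ^ (Fintype.card F - 1) = 1 := by
        rw [hy, hb, h1, h1, bor_one]
      rw [conj_pow] at hyc
      exact conj_eq_one_iff.mp hyc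
    have hsub : (Finset.univ.image fun u : Fˣ => (⟨bor u u 0, hZ u⟩ : C)) ⊆
        Finset.univ.filter fun z : C => z ^ (Fintype.card F - 1) = 1 := by
      intro z hz
      obtain ⟨u, -, rfl⟩ := Finset.mem_image.mp hz
      refine Finset.mem_filter.mpr ⟨Finset.mem_univ _, Subtype.ext ?_⟩
      have hb : ∀ n : ℕ, (bor u u 0) ^ n = bor (u ^ n) (u ^ n) 0 := by
        intro n
        induction n with
        | zero => simp [bor_one]
        | succ n ih => rw [pow_succ, ih, bor_mul, ← pow_succ]; simp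
      show (bor u u 0) ^ (Fintype.card F - 1) = 1
      rw [hb, ← Fintype.card_units, pow_card_eq_one, bor_one]
    have hle := IsCyclic.card_pow_eq_one_le (α := C) (n := Fintype.card F - 1) (by omega)
    have heq := Finset.eq_of_subset_of_card_le hsub (by
      rw [Finset.card_image_of_injective _ (fun u v h => (bor_injective (congrArg Subtype.val h)).1),
        Finset.card_univ, Fintype.card_units]
      convert hle)
    have hm : (⟨c, hc⟩ : C) ∈ Finset.univ.filter fun z : C => z ^ (Fintype.card F - 1) = 1 :=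
      Finset.mem_filter.mpr ⟨Finset.mem_univ _, Subtype.ext hpow⟩
    rw [← heq] at hm
    obtain ⟨u, -, hu⟩ := Finset.mem_image.mp hm
    have hcu : c = bor u u 0 := (congrArg Subtype.val hu).symm
    rw [hcu] at hconj
    obtain ⟨h1, h2, -⟩ := bor_injective (scalar_conj_eq hconj)
    exact hab (h1.trans h2.symm)

include hC hcard hZ in
theorem centralizer_eq {c : GL2} (hc : c ∈ C) (he : Ell c) :
    Subgroup.centralizer ({c} : Set GL2) = C := by
  refine (Subgroup.eq_of_le_of_card_ge (fun y hy => ?_)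
    ((card_centralizer_ell_le he).trans hcard.ge)).symm
  rw [Subgroup.mem_centralizer_singleton_iff]
  letI := hC.commGroup
  exact congrArg Subtype.val (mul_comm (⟨y, hy⟩ : C) ⟨c, hc⟩)

/-- The Galois conjugate `det c • c⁻¹`. -/
noncomputable def bar (c : GL2) : GL2 :=
  bor (Matrix.GeneralLinearGroup.det c) (Matrix.GeneralLinearGroup.det c) 0 * c⁻¹

theorem bar_coe (c : GL2) : (bar c).1 = c.1.trace • (1 : M2) - c.1 := by
  have hinv : (c.1.trace • (1 : M2) - c.1) * c.1 = c.1.det • (1 : M2) := by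
    rw [Matrix.sub_mul, Matrix.smul_mul, Matrix.one_mul, cayley, sub_sub_cancel]
  have e : (bar c).1 * c.1 = c.1.det • (1 : M2) := by
    rw [← Units.val_mul, bar, inv_mul_cancel_right, bor_coe]
    ext i j
    fin_cases i <;> fin_cases j <;> simp
  rw [← hinv] at e
  have h := congrArg (· * (c⁻¹).1) e
  simpa [Matrix.mul_assoc] using h

theorem trace_bar (c : GL2) : (bar c).1.trace = c.1.trace := by
  rw [bar_coe]
  simp [Matrix.trace_fin_two]; ring

theorem det_bar (c : GL2) : (bar c).1.det = c.1.det := by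
  rw [bar_coe]
  simp [Matrix.trace_fin_two, Matrix.det_fin_two]; ring

theorem bar_bar (c : GL2) : bar (bar c) = c :=
  Units.ext (by rw [bar_coe, trace_bar, bar_coe, sub_sub_cancel])

theorem bar_scalar (a : Fˣ) : bar (bor a a 0) = bor a a 0 := by
  refine Units.ext ?_
  rw [bar_coe, trace_bor, bor_coe]
  ext i j
  fin_cases i <;> fin_cases j <;> simp

theorem bar_ne {c : GL2} (he : Ell c) : bar c ≠ c := by
  intro h
  have h' := congrArg Units.val h
  rw [bar_coe] at h'
  by_cases h2 : (2 : F) = 0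
  · have e00 : c.1.trace - c.1 0 0 = c.1 0 0 := by simpa using congrFun (congrFun h' 0) 0
    have ht : c.1.trace = 0 := by linear_combination e00 + (c.1 0 0) * h2
    obtain ⟨r, hr⟩ := FiniteField.isSquare_of_char_two (CharP.ringChar_of_prime_eq_zero Nat.prime_two (by exact_mod_cast h2)) c.1.det
    exact he r (by rw [ht, hr]; linear_combination (r * r) * h2)
  · refine not_scalar_of_ell he (c.1.trace / 2) ?_
    ext i j
    have e := congrFun (congrFun h' i) j
    simp only [Matrix.sub_apply, Matrix.smul_apply, smul_eq_mul] at e ⊢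
    field_simp
    linear_combination -e

include hC hcard hZ in
theorem eq_or_bar {c c' : GL2} (hc : c ∈ C) (he : Ell c) (hc' : c' ∈ C)
    (ht : c'.1.trace = c.1.trace) (hd : c'.1.det = c.1.det) : c' = c ∨ c' = bar c := by
  have hcomm : Commute c'.1 c.1 := by
    rw [← centralizer_eq C hC hcard hZ hc he, Subgroup.mem_centralizer_singleton_iff] at hc'
    exact congrArg Units.val hc'
  obtain ⟨x, y, hxy⟩ := SL2Centralizer.exists_of_commute (not_scalar_of_ell he) hcomm
  have key : (c'.1 - c.1) * (c'.1 - (c.1.trace • (1 : M2) - c.1)) = 0 := by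
    have h1 := cayley c'
    rw [ht, hd] at h1
    simp only [Matrix.sub_mul, Matrix.mul_sub, Matrix.mul_smul, Matrix.mul_one, h1, cayley c,
      ← hcomm.eq, smul_sub]
    abel
  by_cases h : x = 0 ∧ y = 1
  · exact Or.inl (Units.ext (by rw [hxy, h.1, h.2]; simp))
  · refine Or.inr (Units.ext ?_)
    rw [bar_coe]
    have hne : (x • (1 : M2) + (y - 1) • c.1).det ≠ 0 := lin_det_ne he (by
      rw [not_and_or] at h
      exact h.imp id fun h => sub_ne_zero.mpr h)
    have he2 : c'.1 - c.1 = x • (1 : M2) + (y - 1) • c.1 := by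
      rw [hxy, sub_smul, one_smul]; abel
    rw [he2] at key
    have hu := (Matrix.isUnit_iff_isUnit_det _).mpr (isUnit_iff_ne_zero.mpr hne)
    exact sub_eq_zero.mp (hu.mul_right_eq_zero.mp key)

include hZ in
theorem bar_mem {c : GL2} (hc : c ∈ C) : bar c ∈ C := C.mul_mem (hZ _) (C.inv_mem hc)

include hC hcard hZ in
theorem exists_ell : ∃ c ∈ C, Ell c := by
  by_contra h
  push Not at h
  have hle : Nat.card C ≤ Nat.card Fˣ := by
    have hch : ∀ c : C, ∃ a : Fˣ, c.1 = bor a a 0 := fun c =>
      (torus_cases C hC hcard hZ c.2).resolve_left (h c.1 c.2)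
    choose e he using hch
    exact Nat.card_le_card_of_injective e fun c d hcd => Subtype.ext (by rw [he c, he d, hcd])
  rw [Nat.card_units, Nat.card_eq_fintype_card (α := F), hcard] at hle
  have := Fintype.one_lt_card (α := F)
  have : Fintype.card F < Fintype.card F ^ 2 := by nlinarith
  omega

include hC hcard hZ in
/-- Every elliptic element is conjugate into `C`. -/
theorem exists_conj_mem {g : GL2} (hg : Ell g) : ∃ c ∈ C, Ell c ∧ IsConj g c := by
  set s1 : Finset (F × F) := (Finset.univ : Finset (Fˣ × Fˣ)).image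
    (fun p => ((p.1 : F) + (p.2 : F), (p.1 : F) * (p.2 : F))) with hs1
  set s2 : Finset (F × F) := ((Finset.univ : Finset C).filter fun c : C => Ell (c : GL2)).image
    (fun c : C => (c.1.1.trace, c.1.1.det)) with hs2
  have h1 : 2 * s1.card = (Fintype.card F - 1) * (Fintype.card F - 1) + (Fintype.card F - 1) := by
    rw [hs1, SL2Char.two_mul_card_image (Finset.univ : Finset (Fˣ × Fˣ)) _ Prod.swap
      (fun a _ => Finset.mem_univ _), Finset.card_univ, Fintype.card_prod, Fintype.card_units]
    · congr 1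
      refine (Finset.card_bij (fun (u : Fˣ) _ => (u, u)) (fun u _ => by simp)
        (fun u _ v _ h => (Prod.ext_iff.mp h).1) (fun p hp => ?_)).symm.trans
        (by rw [Finset.card_univ, Fintype.card_units])
      obtain ⟨a, b⟩ := p
      have hab : b = a := (Prod.ext_iff.mp (Finset.mem_filter.mp hp).2).1
      exact ⟨a, Finset.mem_univ _, by rw [hab]⟩
    rintro ⟨a, b⟩ _ ⟨a', b'⟩ _
    constructor
    · intro h
      obtain ⟨hs, hp⟩ := Prod.ext_iff.mp h
      simp only at hs hp
      have : ((a' : F) - a) * ((a' : F) - b) = 0 := by linear_combination (-(a' : F)) * hs + hp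
      rcases mul_eq_zero.mp this with e | e
      · have ea : (a' : F) = a := sub_eq_zero.mp e
        exact Or.inl (Prod.ext (Units.ext ea) (Units.ext (by linear_combination (-1 : F) * hs - ea)))
      · have ea : (a' : F) = b := sub_eq_zero.mp e
        exact Or.inr (Prod.ext (Units.ext ea) (Units.ext (show (b' : F) = a by linear_combination (-1 : F) * hs - ea)))
    · rintro (h | h) <;> rw [Prod.ext_iff] at h <;> obtain ⟨rfl, rfl⟩ := h
      · rfl
      · simp [Prod.swap, add_comm, mul_comm]
  have hfcard : ((Finset.univ : Finset C).filter fun c : C => Ell (c : GL2)).card +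
      (Fintype.card F - 1) = Fintype.card F ^ 2 - 1 := by
    rw [← hcard, Nat.card_eq_fintype_card, ← Finset.card_univ (α := C),
      ← Finset.card_filter_add_card_filter_not (s := (Finset.univ : Finset C)) (fun c : C => Ell (c : GL2))]
    congr 1
    rw [← Fintype.card_units, ← Finset.card_univ (α := Fˣ)]
    refine Finset.card_bij (fun u _ => (⟨bor u u 0, hZ u⟩ : C))
      (fun u _ => Finset.mem_filter.mpr ⟨Finset.mem_univ _, not_ell_bor u u 0⟩)
      (fun u _ v _ h => (bor_injective (congrArg Subtype.val h)).1) (fun c hc => ?_)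
    obtain ⟨a, ha⟩ := (torus_cases C hC hcard hZ c.2).resolve_left (Finset.mem_filter.mp hc).2
    exact ⟨a, Finset.mem_univ _, Subtype.ext ha.symm⟩
  have h2 : 2 * s2.card = ((Finset.univ : Finset C).filter fun c : C => Ell (c : GL2)).card := by
    rw [hs2, SL2Char.two_mul_card_image _ _ (fun c : C => (⟨bar c.1, bar_mem C hZ c.2⟩ : C))
      (fun c hc => Finset.mem_filter.mpr ⟨Finset.mem_univ _, fun s => by
        show s * s - (bar c.1).1.trace * s + (bar c.1).1.det ≠ 0
        rw [trace_bar, det_bar]; exact (Finset.mem_filter.mp hc).2 s⟩)]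
    · rw [add_eq_left, Finset.card_eq_zero]
      exact Finset.filter_eq_empty_iff.mpr fun c hc h =>
        bar_ne (Finset.mem_filter.mp hc).2 (congrArg Subtype.val h)
    intro a ha b hb
    have he := (Finset.mem_filter.mp ha).2
    constructor
    · intro h
      obtain ⟨ht, hd⟩ := Prod.ext_iff.mp h
      exact (eq_or_bar C hC hcard hZ a.2 he b.2 ht.symm hd.symm).imp Subtype.ext Subtype.ext
    · rintro (rfl | rfl)
      · rfl
      · exact Prod.ext (trace_bar a.1).symm (det_bar a.1).symm
  have hdisj : Disjoint s1 s2 := by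
    rw [Finset.disjoint_left]
    intro t ht1 ht2
    obtain ⟨p, -, rfl⟩ := Finset.mem_image.mp ht1
    obtain ⟨c, hc, hct⟩ := Finset.mem_image.mp ht2
    obtain ⟨hct1, hct2⟩ := Prod.ext_iff.mp hct
    simp only at hct1 hct2
    exact (Finset.mem_filter.mp hc).2 (p.1 : F) (by rw [hct1, hct2]; ring)
  set T : Finset (F × F) := Finset.univ.filter fun t => t.2 ≠ 0 with hT
  have hTcard : T.card = Fintype.card F * (Fintype.card F - 1) := by
    rw [hT, show (Finset.univ.filter fun t : F × F => t.2 ≠ 0) = Finset.univ ×ˢ (Finset.univ.erase 0) by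
      ext t; simp, Finset.card_product, Finset.card_erase_of_mem (Finset.mem_univ _), Finset.card_univ]
  have hu : s1 ∪ s2 = T := by
    refine Finset.eq_of_subset_of_card_le (fun t ht => ?_) ?_
    · rw [hT, Finset.mem_filter]
      refine ⟨Finset.mem_univ _, ?_⟩
      rcases Finset.mem_union.mp ht with h | h <;> obtain ⟨p, -, rfl⟩ := Finset.mem_image.mp h
      · exact mul_ne_zero p.1.ne_zero p.2.ne_zero
      · exact det_ne p.1
    · rw [Finset.card_union_of_disjoint hdisj, hTcard]
      obtain ⟨k, hk⟩ : ∃ k, Fintype.card F = k + 1 := ⟨Fintype.card F - 1, by have := Fintype.card_pos (α := F); omega⟩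
      rw [hk] at h1 hfcard ⊢
      simp only [Nat.add_sub_cancel] at h1 hfcard ⊢
      have : (k + 1) ^ 2 = k * k + 2 * k + 1 := by ring
      have e2 : (k + 1) * k = k * k + k := by ring
      omega
  have hmem : (g.1.trace, g.1.det) ∈ s1 ∪ s2 := by
    rw [hu, hT]; exact Finset.mem_filter.mpr ⟨Finset.mem_univ _, det_ne g⟩
  rcases Finset.mem_union.mp hmem with h | h
  · obtain ⟨p, -, hp⟩ := Finset.mem_image.mp h
    obtain ⟨hp1, hp2⟩ := Prod.ext_iff.mp hp
    simp only at hp1 hp2
    exact absurd (show (p.1 : F) * p.1 - g.1.trace * p.1 + g.1.det = 0 by rw [← hp1, ← hp2]; ring) (hg _)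
  · obtain ⟨c, hc, hcg⟩ := Finset.mem_image.mp h
    obtain ⟨hc1, hc2⟩ := Prod.ext_iff.mp hcg
    have he := (Finset.mem_filter.mp hc).2
    exact ⟨c.1, c.2, he, isConj_of_charpoly (not_scalar_of_ell hg) (not_scalar_of_ell he) hc1 hc2⟩

/-- A cyclic subgroup of order `q² - 1` containing the scalars. -/
theorem exists_torus : ∃ C : Subgroup (Matrix.GeneralLinearGroup (Fin 2) F),
    IsCyclic C ∧ Nat.card C = Fintype.card F ^ 2 - 1 ∧ ∀ a : Fˣ, bor a a 0 ∈ C := by
  obtain ⟨p, hp⟩ := CharP.exists F
  haveI := hp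
  haveI : Fact p.Prime := ⟨CharP.char_is_prime F p⟩
  haveI : Finite F := Finite.of_fintype F
  let K := FiniteField.Extension F p 2
  let b : Module.Basis (Fin 2) F K := Module.finBasisOfFinrankEq F K (FiniteField.finrank_extension F p 2)
  let ι : Kˣ →* GL2 := Units.map (Algebra.leftMulMatrix b).toRingHom.toMonoidHom
  have hι : Function.Injective ι :=
    Units.map_injective (f := (Algebra.leftMulMatrix b).toRingHom.toMonoidHom) (Algebra.leftMulMatrix_injective b)
  refine ⟨ι.range, ?_, ?_, fun a => ⟨Units.map (algebraMap F K).toMonoidHom a, Units.ext ?_⟩⟩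
  · exact isCyclic_of_surjective ι.rangeRestrict ι.rangeRestrict_surjective
  · rw [← Nat.card_congr (MonoidHom.ofInjective hι).toEquiv, Nat.card_units, FiniteField.natCard_extension,
      Nat.card_eq_fintype_card]
  · show Algebra.leftMulMatrix b (algebraMap F K (a : F)) = _
    rw [AlgHom.commutes, Algebra.algebraMap_eq_smul_one, bor_coe]
    ext i j
    fin_cases i <;> fin_cases j <;> simp

end Fin

end CfsgLib.GL2Char
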