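import Cfsg.Agent.Lib.SL2Char.Table
import Cfsg.Agent.Lib.GL2Char.Elements

/-!
The character table of `GL₂(q)`: `lam l = l ∘ det`, `st l`, `ps α β = Ind_B (α ⊗ β)` and
`ds θ = St · ps (θ|Z) 1 - ps (θ|Z) 1 - Ind_C θ`.
-/

set_option autoImplicit false

namespace CfsgLib.GL2Char

open Matrix Cfsg CfsgLib.CharTheory
open scoped ComplexConjugate Classical
open CfsgLib.SL2Char (cl_eq indFun_central sum_units_mulChar conj_mulChar mulChar_mul_inv
  mulChar_inv_unit qC_ne qC_sub_ne qC_add_ne)

variable {F : Type*} [Field F] [Fintype F] [DecidableEq F]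

local notation "M2" => Matrix (Fin 2) (Fin 2) F
local notation "GL2" => Matrix.GeneralLinearGroup (Fin 2) F
local notation "qC" => (Fintype.card F : ℂ)

theorem card_GL_cast : (Nat.card GL2 : ℂ) = qC * (qC - 1) ^ 2 * (qC + 1) := by
  have h1 : 1 ≤ Fintype.card F ^ 2 := Nat.one_le_pow _ _ Fintype.card_pos
  have h2 : Fintype.card F ≤ Fintype.card F ^ 2 := Nat.le_self_pow two_ne_zero _
  rw [card_GL2, Nat.cast_mul, Nat.cast_sub h1, Nat.cast_sub h2]
  push_cast
  ring

theorem card_borel_cast : (Nat.card (borel F) : ℂ) = (qC - 1) ^ 2 * qC := by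
  rw [card_borel, Nat.cast_mul, Nat.cast_mul, Nat.cast_sub Fintype.card_pos]
  push_cast; ring

theorem index_borel : ((borel F).index : ℂ) = qC + 1 := by
  have h : (Nat.card (borel F) : ℂ) * ((borel F).index : ℂ) = (Nat.card GL2 : ℂ) := by
    exact_mod_cast (borel F).card_mul_index
  rw [card_borel_cast, card_GL_cast] at h
  apply mul_left_cancel₀ (mul_ne_zero (pow_ne_zero 2 (qC_sub_ne (F := F))) (qC_ne (F := F)))
  rw [h]; ring

/-- The linear character `l ∘ det`. -/
noncomputable def lam (l : MulChar F ℂ) : GL2 → ℂ := fun g => l g.1.det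

/-- The homomorphism behind `lam`. -/
noncomputable def lamHom (l : MulChar F ℂ) : GL2 →* ℂˣ :=
  (MulChar.equivToUnitHom l).comp Matrix.GeneralLinearGroup.det

theorem lam_eq (l : MulChar F ℂ) : lam l = fun g => ((lamHom l g : ℂˣ) : ℂ) := by
  funext g
  show l g.1.det = ((MulChar.equivToUnitHom l (Matrix.GeneralLinearGroup.det g) : ℂˣ) : ℂ)
  rw [MulChar.coe_equivToUnitHom]
  rfl

theorem isIrr_lam (l : MulChar F ℂ) : IsIrrCharacter GL2 (lam l) := by
  rw [lam_eq]; exact isIrrCharacter_linear _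

theorem lam_classFun (l : MulChar F ℂ) : IsClassFunction GL2 (lam l) :=
  isClassFunction_irr (isIrr_lam l)

theorem lam_bor (l : MulChar F ℂ) (a b : Fˣ) (x : F) : lam l (bor a b x) = l (a : F) * l (b : F) := by
  simp only [lam, det_bor, map_mul]

theorem lam_one (l : MulChar F ℂ) : lam l 1 = 1 := by simp [lam]

/-- The principal series. -/
noncomputable def ps (α β : MulChar F ℂ) : GL2 → ℂ :=
  indFun (borel F) fun g => α ((g : GL2).1 0 0) * β ((g : GL2).1 1 1)

/-- The linear character of the Borel subgroup. -/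
noncomputable def borelHom (α β : MulChar F ℂ) : borel F →* ℂˣ :=
  ((MulChar.equivToUnitHom α).comp
    { toFun := fun g => (equivBorel g).1
      map_one' := Units.ext (by show ((1 : borel F) : GL2).1 0 0 = 1; simp)
      map_mul' := fun g h => Units.ext (by
        show (g.1.1 * h.1.1) 0 0 = g.1.1 0 0 * h.1.1 0 0
        simp [Matrix.mul_apply, Fin.sum_univ_two, mem_borel.mp h.2]) }) *
  ((MulChar.equivToUnitHom β).comp
    { toFun := fun g => (equivBorel g).2.1
      map_one' := Units.ext (by show ((1 : borel F) : GL2).1 1 1 = 1; simp)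
      map_mul' := fun g h => Units.ext (by
        show (g.1.1 * h.1.1) 1 1 = g.1.1 1 1 * h.1.1 1 1
        simp [Matrix.mul_apply, Fin.sum_univ_two, mem_borel.mp g.2]) })

theorem isCharacter_ps (α β : MulChar F ℂ) : IsCharacter GL2 (ps α β) := by
  refine isCharacter_indFun _ ?_
  have h := isCharacter_of_irr (isIrrCharacter_linear (borelHom α β))
  convert h using 1
  funext g
  show α (g.1.1 0 0) * β (g.1.1 1 1) = (((MulChar.equivToUnitHom α _) * (MulChar.equivToUnitHom β _) : ℂˣ) : ℂ)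
  rw [Units.val_mul, MulChar.coe_equivToUnitHom, MulChar.coe_equivToUnitHom]
  rfl

theorem ps_classFun (α β : MulChar F ℂ) : IsClassFunction GL2 (ps α β) := indFun_isClassFunction _ _

theorem ext_borel (α β : MulChar F ℂ) (y : GL2) :
    extendByZero (borel F) (fun g => α ((g : GL2).1 0 0) * β ((g : GL2).1 1 1)) y =
      if y.1 1 0 = 0 then α (y.1 0 0) * β (y.1 1 1) else 0 := by
  by_cases hy : y.1 1 0 = 0
  · rw [if_pos hy, extendByZero_of_mem _ _ (mem_borel.mpr hy)]
  · rw [if_neg hy, extendByZero_of_not_mem _ _ fun h => hy (mem_borel.mp h)]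

theorem column_eigen (g y : GL2) (h : (y⁻¹ * g * y).1 1 0 = 0) :
    g.1 0 0 * y.1 0 0 + g.1 0 1 * y.1 1 0 = y.1 0 0 * (y⁻¹ * g * y).1 0 0 ∧
      g.1 1 0 * y.1 0 0 + g.1 1 1 * y.1 1 0 = y.1 1 0 * (y⁻¹ * g * y).1 0 0 := by
  have e : g.1 * y.1 = y.1 * (y⁻¹ * g * y).1 := by
    rw [← Units.val_mul, ← Units.val_mul]; congr 1; group
  have e0 := congrFun (congrFun e 0) 0
  have e1 := congrFun (congrFun e 1) 0
  rw [Matrix.mul_apply, Matrix.mul_apply, Fin.sum_univ_two, Fin.sum_univ_two, h] at e0 e1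
  exact ⟨by linear_combination e0, by linear_combination e1⟩

theorem sum_col : (∑ y : GL2, (if y.1 1 0 = 0 then (1 : ℂ) else 0)) = (qC - 1) ^ 2 * qC := by
  rw [← card_borel_cast, Finset.sum_boole, ← Fintype.card_subtype, ← Nat.card_eq_fintype_card]
  exact congrArg _ (Nat.card_congr (Equiv.subtypeEquivRight fun x => mem_borel.symm))

/-- The Weyl element. -/
def wGL : GL2 := Matrix.GeneralLinearGroup.mkOfDetNeZero !![0, 1; 1, 0] (by simp [Matrix.det_fin_two])

@[simp] theorem wGL_coe : (wGL : GL2).1 = !![0, 1; 1, 0] := rfl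

theorem sum_row : (∑ y : GL2, (if y.1 0 0 = 0 then (1 : ℂ) else 0)) = (qC - 1) ^ 2 * qC := by
  rw [← sum_col (F := F)]
  refine Fintype.sum_equiv (Equiv.mulLeft wGL) _ _ fun x => ?_
  have e : (Equiv.mulLeft wGL x).1 1 0 = x.1 0 0 := by
    show ((wGL : GL2).1 * x.1) 1 0 = _
    simp [Matrix.mul_apply, Fin.sum_univ_two]
  rw [e]

theorem diag_conj_mem (g y : GL2) (hg : g.1 1 0 = 0) (hy : y.1 1 0 = 0) :
    (y⁻¹ * g * y).1 1 0 = 0 ∧ (y⁻¹ * g * y).1 0 0 = g.1 0 0 ∧ (y⁻¹ * g * y).1 1 1 = g.1 1 1 := by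
  obtain ⟨a, b, x, ea, eb, -, rfl⟩ := eq_bor_of_lower hg
  obtain ⟨c, d, z, -, -, -, rfl⟩ := eq_bor_of_lower hy
  have e : ∃ w : F, (bor c d z)⁻¹ * bor a b x * bor c d z = bor a b w := by
    refine ⟨((c⁻¹ : Fˣ) : F) * ((a : F) * z + x * (d : F) - z * (b : F)), ?_⟩
    rw [mul_assoc, inv_mul_eq_iff_eq_mul, bor_mul, bor_mul, mul_comm c a, mul_comm d b]
    congr 1
    linear_combination (-((a : F) * z + x * (d : F) - z * (b : F))) * c.mul_inv
  obtain ⟨w, hw⟩ := e
  rw [hw]
  simp

theorem ps_bor_ne (α β : MulChar F ℂ) {a b : Fˣ} (hab : a ≠ b) (x : F) :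
    ps α β (bor a b x) = α (a : F) * β (b : F) + α (b : F) * β (a : F) := by
  rw [cl_eq (ps_classFun α β) (isConj_bor_zero hab x)]
  have hne : (a : F) ≠ (b : F) := fun h => hab (Units.ext h)
  have hv : ∀ y : GL2,
      extendByZero (borel F) (fun g => α ((g : GL2).1 0 0) * β ((g : GL2).1 1 1)) (y⁻¹ * bor a b 0 * y) =
      α (a : F) * β (b : F) * (if y.1 1 0 = 0 then 1 else 0) +
        α (b : F) * β (a : F) * (if y.1 0 0 = 0 then 1 else 0) := by
    intro y
    rw [ext_borel]
    by_cases hy : y.1 1 0 = 0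
    · obtain ⟨h10, h00, h11⟩ := diag_conj_mem (bor a b 0) y (by simp) hy
      have hy' : y.1 0 0 ≠ 0 := fun h => det_ne y (by rw [← det_eq, h, hy]; ring)
      rw [if_pos h10, h00, h11, if_pos hy, if_neg hy']
      simp
    · by_cases hy' : y.1 0 0 = 0
      · have hw : (wGL * y : GL2).1 1 0 = 0 := by
          show ((wGL : GL2).1 * y.1) 1 0 = 0
          simp [Matrix.mul_apply, Fin.sum_univ_two, hy']
        obtain ⟨h10, h00, h11⟩ := diag_conj_mem (bor b a 0) (wGL * y) (by simp) hw
        have e : (wGL * y)⁻¹ * bor b a 0 * (wGL * y) = y⁻¹ * bor a b 0 * y := by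
          have ew : (wGL : GL2)⁻¹ * bor b a 0 * wGL = bor a b 0 := by
            rw [mul_assoc, inv_mul_eq_iff_eq_mul]
            apply Units.ext
            simp only [Units.val_mul, bor_coe, wGL_coe]
            simp [Matrix.mul_fin_two]
          rw [← ew]; group
        rw [e] at h10 h00 h11
        rw [if_pos h10, h00, h11, if_neg hy, if_pos hy']
        simp
      · rw [if_neg hy, if_neg hy', if_neg ?_, mul_zero, mul_zero, add_zero]
        intro h
        obtain ⟨e0, e1⟩ := column_eigen _ y h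
        simp only [bor_coe, Matrix.cons_val', Matrix.cons_val_zero, Matrix.cons_val_one, Matrix.of_apply,
          Matrix.cons_val_fin_one, zero_mul, add_zero, zero_add] at e0 e1
        have r0 : (a : F) = (y⁻¹ * bor a b 0 * y).1 0 0 := mul_left_cancel₀ hy' (by linear_combination e0)
        have r1 : (b : F) = (y⁻¹ * bor a b 0 * y).1 0 0 := mul_left_cancel₀ hy (by linear_combination e1)
        exact hne (r0.trans r1.symm)
  simp only [ps, indFun, hv, Finset.sum_add_distrib, ← Finset.mul_sum, sum_col, sum_row, card_borel_cast]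
  have := qC_ne (F := F); have := qC_sub_ne (F := F)
  field_simp

theorem ps_bor_unip (α β : MulChar F ℂ) (a : Fˣ) {x : F} (hx : x ≠ 0) :
    ps α β (bor a a x) = α (a : F) * β (a : F) := by
  have hv : ∀ y : GL2,
      extendByZero (borel F) (fun g => α ((g : GL2).1 0 0) * β ((g : GL2).1 1 1)) (y⁻¹ * bor a a x * y) =
      α (a : F) * β (a : F) * (if y.1 1 0 = 0 then 1 else 0) := by
    intro y
    rw [ext_borel]
    by_cases hy : y.1 1 0 = 0
    · obtain ⟨h10, h00, h11⟩ := diag_conj_mem (bor a a x) y (by simp) hy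
      rw [if_pos h10, h00, h11, if_pos hy]
      simp
    · rw [if_neg hy, if_neg ?_, mul_zero]
      intro h
      obtain ⟨e0, e1⟩ := column_eigen _ y h
      simp only [bor_coe, Matrix.cons_val', Matrix.cons_val_zero, Matrix.cons_val_one, Matrix.of_apply,
        Matrix.cons_val_fin_one, zero_mul, add_zero, zero_add] at e0 e1
      have r1 : (a : F) = (y⁻¹ * bor a a x * y).1 0 0 := mul_left_cancel₀ hy (by linear_combination e1)
      rw [← r1] at e0
      have : x * y.1 1 0 = 0 := by linear_combination e0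
      exact mul_ne_zero hx hy this
  simp only [ps, indFun, hv, ← Finset.mul_sum, sum_col, card_borel_cast]
  have := qC_ne (F := F); have := qC_sub_ne (F := F)
  field_simp

theorem ps_bor_scalar (α β : MulChar F ℂ) (a : Fˣ) :
    ps α β (bor a a 0) = (qC + 1) * (α (a : F) * β (a : F)) := by
  have h := indFun_central (borel F) (fun g => α ((g : GL2).1 0 0) * β ((g : GL2).1 1 1))
    ⟨bor a a 0, bor_mem a a 0⟩ (fun g => scalar_comm a g)
  rw [ps, h, index_borel]
  simp

theorem ps_ell (α β : MulChar F ℂ) {g : GL2} (hg : Ell g) : ps α β g = 0 := by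
  simp only [ps, indFun]
  refine mul_eq_zero_of_right _ (Finset.sum_eq_zero fun x _ => ?_)
  rw [extendByZero_of_not_mem]
  intro hmem
  obtain ⟨a, b, z, -, -, -, he⟩ := eq_bor_of_lower (mem_borel.mp hmem)
  exact not_ell_bor a b z (he ▸ ell_of_isConj (isConj_iff.mpr ⟨x⁻¹, by rw [inv_inv]⟩) hg)

theorem ps_one (α β : MulChar F ℂ) : ps α β 1 = qC + 1 := by
  rw [← bor_one, ps_bor_scalar]; simp

theorem ps_bsum (α β : MulChar F ℂ) (a b : Fˣ) :
    ∑ x : F, ps α β (bor a b x) = qC * (α (a : F) * β (b : F) + α (b : F) * β (a : F)) := by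
  by_cases hab : a = b
  · subst hab
    rw [Finset.sum_eq_add_sum_sdiff_singleton_of_mem (Finset.mem_univ (0 : F)), ps_bor_scalar,
      Finset.sum_congr rfl (fun x hx => ps_bor_unip α β a (by simpa using hx)),
      Finset.sum_const, Finset.card_sdiff_of_subset (Finset.subset_univ _), Finset.card_singleton,
      Finset.card_univ, nsmul_eq_mul, Nat.cast_sub Fintype.card_pos]
    push_cast; ring
  · simp only [ps_bor_ne α β hab, Finset.sum_const, Finset.card_univ, nsmul_eq_mul]

/-- Reciprocity with the Borel subgroup. -/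
theorem classInner_ps (α β : MulChar F ℂ) {f : GL2 → ℂ} (hf : IsClassFunction GL2 f) :
    classInner (ps α β) f = ((qC - 1) ^ 2 * qC)⁻¹ *
      ∑ a : Fˣ, ∑ b : Fˣ, α (a : F) * β (b : F) * conj (∑ x : F, f (bor a b x)) := by
  rw [ps, frobenius_reciprocity _ _ hf, classInner, card_borel_cast,
    sum_borel (fun y : GL2 => α (y.1 0 0) * β (y.1 1 1) * conj (f y))]
  congr 1
  refine Finset.sum_congr (Finset.ext fun _ => by simp) fun a _ => ?_
  refine Finset.sum_congr (Finset.ext fun _ => by simp) fun b _ => ?_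
  rw [map_sum, Finset.mul_sum]
  simp

theorem sum_pair_char (α β γ δ : MulChar F ℂ) :
    ∑ a : Fˣ, ∑ b : Fˣ, α (a : F) * β (b : F) * (γ ((a⁻¹ : Fˣ) : F) * δ ((b⁻¹ : Fˣ) : F)) =
      (if α = γ then qC - 1 else 0) * (if β = δ then qC - 1 else 0) := by
  have e : ∀ a b : Fˣ, α (a : F) * β (b : F) * (γ ((a⁻¹ : Fˣ) : F) * δ ((b⁻¹ : Fˣ) : F)) =
      (α * γ⁻¹) (a : F) * (β * δ⁻¹) (b : F) := by
    intro a b
    rw [MulChar.mul_apply, MulChar.mul_apply, mulChar_inv_unit, mulChar_inv_unit]; ring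
  simp only [e, ← Finset.mul_sum, ← Finset.sum_mul, sum_units_mulChar, mul_inv_eq_one]

omit [Field F] [DecidableEq F] in
theorem ite_mul_ite (P Q : Prop) [Decidable P] [Decidable Q] :
    (if P then qC - 1 else 0) * (if Q then qC - 1 else 0) = (qC - 1) ^ 2 * (if P ∧ Q then 1 else 0) := by
  by_cases P <;> by_cases Q <;> simp [*, sq]

theorem classInner_ps_ps (α β γ δ : MulChar F ℂ) :
    classInner (ps α β) (ps γ δ) =
      (if α = γ ∧ β = δ then 1 else 0) + (if α = δ ∧ β = γ then 1 else 0) := by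
  rw [classInner_ps α β (ps_classFun γ δ)]
  have e : ∀ a b : Fˣ, α (a : F) * β (b : F) * conj (∑ x : F, ps γ δ (bor a b x)) =
      qC * (α (a : F) * β (b : F) * (γ ((a⁻¹ : Fˣ) : F) * δ ((b⁻¹ : Fˣ) : F)) +
        α (a : F) * β (b : F) * (δ ((a⁻¹ : Fˣ) : F) * γ ((b⁻¹ : Fˣ) : F))) := by
    intro a b
    rw [ps_bsum]
    simp only [map_mul, map_add, conj_mulChar, Complex.conj_natCast]
    ring
  simp only [e, ← Finset.mul_sum, Finset.sum_add_distrib, sum_pair_char, ite_mul_ite]
  have := qC_ne (F := F); have := qC_sub_ne (F := F)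
  field_simp

theorem classInner_ps_lam (α β l : MulChar F ℂ) :
    classInner (ps α β) (lam l) = if α = l ∧ β = l then 1 else 0 := by
  rw [classInner_ps α β (lam_classFun l)]
  have e : ∀ a b : Fˣ, α (a : F) * β (b : F) * conj (∑ x : F, lam l (bor a b x)) =
      qC * (α (a : F) * β (b : F) * (l ((a⁻¹ : Fˣ) : F) * l ((b⁻¹ : Fˣ) : F))) := by
    intro a b
    simp only [lam_bor, Finset.sum_const, Finset.card_univ, nsmul_eq_mul, map_mul, conj_mulChar,
      Complex.conj_natCast]
    ring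
  simp only [e, ← Finset.mul_sum, sum_pair_char, ite_mul_ite]
  have := qC_ne (F := F); have := qC_sub_ne (F := F)
  field_simp

theorem classInner_lam_lam (l m : MulChar F ℂ) : classInner (lam l) (lam m) = if l = m then 1 else 0 := by
  by_cases h : l = m
  · rw [if_pos h, h]; exact classInner_irr_self (isIrr_lam m)
  · rw [if_neg h]
    refine classInner_irr_ne (isIrr_lam l) (isIrr_lam m) fun e => h (MulChar.ext fun a => ?_)
    have := congrFun e (bor a 1 0)
    rw [lam_bor, lam_bor, Units.val_one, map_one, map_one, mul_one, mul_one] at this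
    exact this

/-- The twisted Steinberg characters. -/
noncomputable def st (l : MulChar F ℂ) : GL2 → ℂ := ps l l - lam l

theorem st_classFun (l : MulChar F ℂ) : IsClassFunction GL2 (st l) :=
  isClassFunction_sub (ps_classFun _ _) (lam_classFun l)

theorem st_bor_ne (l : MulChar F ℂ) {a b : Fˣ} (h : a ≠ b) (x : F) :
    st l (bor a b x) = l (a : F) * l (b : F) := by
  simp only [st, Pi.sub_apply, ps_bor_ne l l h, lam_bor]; ring

theorem st_bor_unip (l : MulChar F ℂ) (a : Fˣ) {x : F} (hx : x ≠ 0) : st l (bor a a x) = 0 := by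
  simp only [st, Pi.sub_apply, ps_bor_unip l l a hx, lam_bor]; ring

theorem st_bor_scalar (l : MulChar F ℂ) (a : Fˣ) : st l (bor a a 0) = qC * (l (a : F) * l (a : F)) := by
  simp only [st, Pi.sub_apply, ps_bor_scalar, lam_bor]; ring

theorem st_ell (l : MulChar F ℂ) {g : GL2} (hg : Ell g) : st l g = -l g.1.det := by
  simp only [st, Pi.sub_apply, ps_ell l l hg, lam]; ring

theorem st_one (l : MulChar F ℂ) : st l 1 = qC := by
  rw [← bor_one, st_bor_scalar]; simp

theorem classInner_st_st (l m : MulChar F ℂ) : classInner (st l) (st m) = if l = m then 1 else 0 := by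
  rw [st, st, classInner_sub_left, classInner_sub_right, classInner_sub_right, classInner_ps_ps,
    classInner_ps_lam, ← classInner_comm (ps m m) (lam l), classInner_ps_lam, classInner_lam_lam]
  by_cases h : l = m
  · simp [h]
  · simp [h, Ne.symm h]

theorem isIrr_st (l : MulChar F ℂ) : IsIrrCharacter GL2 (st l) := by
  refine irr_of_norm_one (isGenChar_sub (isGenChar_of_char (isCharacter_ps l l))
    (isGenChar_of_char (isCharacter_of_irr (isIrr_lam l)))) ((classInner_st_st l l).trans (if_pos rfl)) ?_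
  show (0 : ℝ) < (st l (1 : GL2)).re
  rw [st_one, Complex.natCast_re]
  exact_mod_cast Fintype.card_pos

section Torus

variable (C : Subgroup (Matrix.GeneralLinearGroup (Fin 2) F))
variable (hC : IsCyclic C) (hcard : Nat.card C = Fintype.card F ^ 2 - 1) (hZ : ∀ a : Fˣ, bor a a 0 ∈ C)

/-- Scalars inside `C`. -/
def zHom : Fˣ →* C where
  toFun a := ⟨bor a a 0, hZ a⟩
  map_one' := Subtype.ext bor_one
  map_mul' a b := Subtype.ext (by
    show bor (a * b) (a * b) 0 = bor a a 0 * bor b b 0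
    rw [bor_mul]; simp)

/-- The conjugation `c ↦ det c • c⁻¹` on `C`. -/
noncomputable def barC (c : C) : C := ⟨bar c.1, bar_mem C hZ c.2⟩

/-- Restriction of `θ` to the scalars. -/
noncomputable def resZ (θ : C →* ℂˣ) : MulChar F ℂ := MulChar.ofUnitHom (θ.comp (zHom C hZ))

theorem resZ_apply (θ : C →* ℂˣ) (a : Fˣ) : resZ C hZ θ (a : F) = ((θ ⟨bor a a 0, hZ a⟩ : ℂˣ) : ℂ) := by
  rw [resZ, MulChar.ofUnitHom_coe]; rfl

include hC in
theorem bar_mul (c d : C) : barC C hZ (c * d) = barC C hZ c * barC C hZ d := by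
  letI := hC.commGroup
  apply Subtype.ext
  show bor _ _ 0 * (c.1 * d.1)⁻¹ = bor _ _ 0 * c.1⁻¹ * (bor _ _ 0 * d.1⁻¹)
  have hcomm : c.1 * d.1 = d.1 * c.1 := congrArg Subtype.val (mul_comm c d)
  have hb : bor (Matrix.GeneralLinearGroup.det (c.1 * d.1)) (Matrix.GeneralLinearGroup.det (c.1 * d.1)) 0 =
      bor (Matrix.GeneralLinearGroup.det c.1) (Matrix.GeneralLinearGroup.det c.1) 0 *
        bor (Matrix.GeneralLinearGroup.det d.1) (Matrix.GeneralLinearGroup.det d.1) 0 := by
    rw [bor_mul, map_mul]; simp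
  rw [show ((c * d : C) : GL2) = c.1 * d.1 from rfl, hb, hcomm, _root_.mul_inv_rev, mul_assoc, mul_assoc]
  congr 1
  rw [← mul_assoc, (scalar_comm (Matrix.GeneralLinearGroup.det d.1) c.1⁻¹).eq, mul_assoc]

/-- `θ` composed with the conjugation. -/
noncomputable def twist (hC : IsCyclic C) (hZ : ∀ a : Fˣ, bor a a 0 ∈ C) (θ : C →* ℂˣ) : C →* ℂˣ where
  toFun c := θ (barC C hZ c)
  map_one' := by
    rw [show barC C hZ 1 = 1 from Subtype.ext (by
      show bar 1 = 1
      rw [← bor_one, bar_scalar]), map_one]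
  map_mul' c d := by rw [bar_mul C hC hZ, map_mul]

end Torus

end CfsgLib.GL2Char
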