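import Cfsg.Agent.Lib.GL2Char.Discrete

/-!
The four families of irreducible characters of `GL₂(q)` and their completeness.
-/

set_option autoImplicit false

namespace CfsgLib.GL2Char

open Matrix Cfsg CfsgLib.CharTheory
open scoped ComplexConjugate Classical
open CfsgLib.SL2Char (cl_eq qC_ne qC_sub_ne qC_add_ne two_mul_card_image mem_of_sum_sq card_irr_of_mem
  natCast_inj')

variable {F : Type*} [Field F] [Fintype F] [DecidableEq F]

local notation "GL2" => Matrix.GeneralLinearGroup (Fin 2) F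
local notation "qC" => (Fintype.card F : ℂ)

theorem isIrr_ps {α β : MulChar F ℂ} (h : α ≠ β) : IsIrrCharacter GL2 (ps α β) :=
  irr_of_char_norm_one (isCharacter_ps α β) (by
    rw [classInner_ps_ps, if_pos ⟨rfl, rfl⟩, if_neg (fun e => h e.1), add_zero])

theorem ps_swap (α β : MulChar F ℂ) : ps β α = ps α β := by
  refine funext fun g => ?_
  rcases elem_cases g with hg | ⟨a, b, x, hg⟩
  · rw [ps_ell _ _ hg, ps_ell _ _ hg]
  · rw [cl_eq (ps_classFun _ _) hg, cl_eq (ps_classFun α β) hg]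
    by_cases hab : a = b
    · subst hab
      by_cases hx : x = 0
      · subst hx; rw [ps_bor_scalar, ps_bor_scalar]; ring
      · rw [ps_bor_unip _ _ a hx, ps_bor_unip _ _ a hx]; ring
    · rw [ps_bor_ne _ _ hab, ps_bor_ne _ _ hab]; ring

theorem ps_eq_iff (α β α' β' : MulChar F ℂ) :
    ps α β = ps α' β' ↔ (α = α' ∧ β = β') ∨ (α = β' ∧ β = α') := by
  constructor
  · intro h
    have h1 := classInner_ps_ps α β α' β'
    rw [← h, classInner_ps_ps α β α β, if_pos ⟨rfl, rfl⟩] at h1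
    by_contra hne
    have e1 : ¬ (α = α' ∧ β = β') := fun e => hne (Or.inl e)
    have e2 : ¬ (α = β' ∧ β = α') := fun e => hne (Or.inr e)
    rw [if_neg e1, if_neg e2, add_zero] at h1
    have hre := congrArg Complex.re h1
    split_ifs at hre <;> simp at hre
  · rintro (⟨rfl, rfl⟩ | ⟨rfl, rfl⟩)
    · rfl
    · exact (ps_swap α β).symm

theorem lam_injective : Function.Injective (lam : MulChar F ℂ → GL2 → ℂ) := by
  intro l m h
  have h1 := classInner_lam_lam l m
  rw [h, classInner_irr_self (isIrr_lam m)] at h1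
  by_contra hne
  rw [if_neg hne] at h1
  exact one_ne_zero h1

theorem st_injective : Function.Injective (st : MulChar F ℂ → GL2 → ℂ) := by
  intro l m h
  have h1 := classInner_st_st l m
  rw [h, classInner_irr_self (isIrr_st m)] at h1
  by_contra hne
  rw [if_neg hne] at h1
  exact one_ne_zero h1

theorem card_mulChar : Fintype.card (MulChar F ℂ) = Fintype.card F - 1 := by
  rw [← Nat.card_eq_fintype_card, MulChar.card_eq_card_units_of_hasEnoughRootsOfUnity, Nat.card_units,
    Nat.card_eq_fintype_card]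

/-- Pairs of distinct characters. -/
noncomputable def psDom (F : Type*) [Field F] [Fintype F] :
    Finset (MulChar F ℂ × MulChar F ℂ) :=
  Finset.univ.filter fun p => p.1 ≠ p.2

/-- Irreducible principal series. -/
noncomputable def psImg (F : Type*) [Field F] [Fintype F] [DecidableEq F] :
    Finset (Matrix.GeneralLinearGroup (Fin 2) F → ℂ) :=
  (psDom F).image fun p => ps p.1 p.2

theorem mem_psImg {f : GL2 → ℂ} :
    f ∈ psImg F ↔ ∃ α β : MulChar F ℂ, α ≠ β ∧ ps α β = f := by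
  simp [psImg, psDom, Prod.exists]

theorem two_card_psImg :
    2 * (psImg F).card = (Fintype.card F - 1) * (Fintype.card F - 2) := by
  rw [psImg, two_mul_card_image _ _ Prod.swap]
  · have h0 : ((psDom F).filter fun p => p.swap = p) = ∅ := by
      refine Finset.filter_eq_empty_iff.mpr fun p hp h => ?_
      exact (Finset.mem_filter.mp hp).2 (congrArg Prod.snd h)
    rw [h0, Finset.card_empty, add_zero, psDom,
      show (Finset.univ.filter fun p : MulChar F ℂ × MulChar F ℂ => p.1 ≠ p.2) =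
        (Finset.univ : Finset (MulChar F ℂ)).offDiag by ext p; simp,
      Finset.offDiag_card, Finset.card_univ, card_mulChar]
    have := Fintype.one_lt_card (α := F)
    obtain ⟨k, hk⟩ : ∃ k, Fintype.card F = k + 2 := ⟨Fintype.card F - 2, by omega⟩
    rw [hk, show k + 2 - 1 = k + 1 by omega, show k + 2 - 2 = k by omega]
    rw [Nat.sub_eq_iff_eq_add (Nat.le_mul_self _)]
    ring
  · rintro ⟨α, β⟩ h
    simp only [psDom, Finset.mem_filter, Finset.mem_univ, true_and] at h ⊢
    exact Ne.symm h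
  · rintro ⟨α, β⟩ _ ⟨α', β'⟩ _
    simp only [ps_eq_iff, Prod.swap, Prod.mk.injEq]
    constructor
    · rintro (⟨rfl, rfl⟩ | ⟨rfl, rfl⟩)
      · exact Or.inl ⟨rfl, rfl⟩
      · exact Or.inr ⟨rfl, rfl⟩
    · rintro (⟨rfl, rfl⟩ | ⟨rfl, rfl⟩)
      · exact Or.inl ⟨rfl, rfl⟩
      · exact Or.inr ⟨rfl, rfl⟩

section Torus

variable (C : Subgroup (Matrix.GeneralLinearGroup (Fin 2) F))
variable (hC : IsCyclic C) (hcard : Nat.card C = Fintype.card F ^ 2 - 1) (hZ : ∀ a : Fˣ, bor a a 0 ∈ C)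

noncomputable instance torusDualFintype : Fintype (C →* ℂˣ) :=
  @Fintype.ofFinite _ (Finite.of_injective (fun φ : C →* ℂˣ => fun c : C =>
    (⟨((φ c : ℂˣ) : ℂ), by
      rw [Polynomial.mem_nthRootsFinset (Nat.card_pos (α := C)), ← Units.val_pow_eq_pow_val, ← map_pow,
        pow_card_eq_one', map_one, Units.val_one]⟩ : Polynomial.nthRootsFinset (Nat.card C) (1 : ℂ)))
    (fun φ ψ h => MonoidHom.ext fun c => Units.ext (congrArg Subtype.val (congrFun h c))))

include hcard in
theorem card_torusDual (hC : IsCyclic C) : Fintype.card (C →* ℂˣ) = Fintype.card F ^ 2 - 1 := by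
  letI := hC.commGroup
  obtain ⟨e⟩ := CommGroup.monoidHom_mulEquiv_of_hasEnoughRootsOfUnity C ℂ
  rw [← Nat.card_eq_fintype_card, Nat.card_congr e.toEquiv, hcard]

include hcard in
theorem card_fixed :
    ((Finset.univ : Finset (C →* ℂˣ)).filter fun θ => twist C hC hZ θ = θ).card =
      Fintype.card F - 1 := by
  letI := hC.commGroup
  have hq := Fintype.one_lt_card (α := F)
  have hfac : Fintype.card F ^ 2 - 1 = (Fintype.card F + 1) * (Fintype.card F - 1) := by
    simpa using Nat.sq_sub_sq (Fintype.card F) 1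
  let φ : C →* C :=
    { toFun := fun c => barC C hZ c * c⁻¹
      map_one' := by
        rw [inv_one, mul_one]
        exact Subtype.ext (by show bar 1 = 1; rw [← bor_one, bar_scalar])
      map_mul' := fun c d => by rw [bar_mul C hC hZ, mul_inv]; exact mul_mul_mul_comm _ _ _ _ }
  have hker : Nat.card φ.ker = Fintype.card F - 1 := by
    rw [← Nat.card_eq_fintype_card (α := F), ← Nat.card_units]
    symm
    refine Nat.card_eq_of_bijective (fun a => ⟨⟨bor a a 0, hZ a⟩, ?_⟩) ⟨fun a b h => ?_, fun c => ?_⟩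
    · show barC C hZ ⟨bor a a 0, hZ a⟩ * (⟨bor a a 0, hZ a⟩ : C)⁻¹ = 1
      rw [barC_scalar, mul_inv_cancel]
    · exact (bor_injective (congrArg (fun z : φ.ker => z.1.1) h)).1
    · have hc : barC C hZ c.1 = c.1 := mul_inv_eq_one.mp c.2
      rcases torus_cases C hC hcard hZ c.1.2 with he | ⟨a, ha⟩
      · exact absurd (congrArg Subtype.val hc) (bar_ne he)
      · exact ⟨a, Subtype.ext (Subtype.ext ha.symm)⟩
  have hrange : Nat.card φ.range = Fintype.card F + 1 := by
    have h := φ.ker.card_mul_index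
    rw [Subgroup.index_ker, hker, hcard, hfac, mul_comm (Fintype.card F + 1)] at h
    exact Nat.eq_of_mul_eq_mul_left (by omega) h
  have hgcd : (Nat.card C).gcd (Fintype.card F - 1) = Fintype.card F - 1 :=
    Nat.gcd_eq_right ⟨Fintype.card F + 1, by rw [hcard, hfac, mul_comm]⟩
  have hpow : Nat.card (powMonoidHom (Fintype.card F - 1) : C →* C).range = Fintype.card F + 1 := by
    rw [IsCyclic.card_powMonoidHom_range, hgcd, hcard, hfac, Nat.mul_div_cancel _ (by omega)]
  have hK : Nat.card (powMonoidHom (Fintype.card F + 1) : C →* C).ker = Fintype.card F + 1 := by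
    rw [IsCyclic.card_powMonoidHom_ker, hcard, hfac]
    exact Nat.gcd_eq_right (dvd_mul_right _ _)
  have hle : ∀ H : Subgroup C, Nat.card H = Fintype.card F + 1 →
      H = (powMonoidHom (Fintype.card F + 1) : C →* C).ker := fun H hH =>
    Subgroup.eq_of_le_of_card_ge (fun y hy => by
      rw [MonoidHom.mem_ker, powMonoidHom_apply, ← hH]
      exact congrArg Subtype.val (pow_card_eq_one' (G := H) (x := ⟨y, hy⟩))) (hK.trans hH.symm).le
  have heq : φ.range = (powMonoidHom (Fintype.card F - 1) : C →* C).range :=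
    (hle _ hrange).trans (hle _ hpow).symm
  have hiff : ∀ θ : C →* ℂˣ, twist C hC hZ θ = θ ↔ θ ^ (Fintype.card F - 1) = 1 := by
    intro θ
    have e1 : twist C hC hZ θ = θ ↔ φ.range ≤ θ.ker := by
      constructor
      · rintro h _ ⟨c, rfl⟩
        show θ (barC C hZ c * c⁻¹) = 1
        rw [map_mul, map_inv, ← twist_apply C hC hZ θ c, h, mul_inv_cancel]
      · intro h
        refine MonoidHom.ext fun c => ?_
        have h' : θ (barC C hZ c * c⁻¹) = 1 := h ⟨c, rfl⟩
        rw [map_mul, map_inv, mul_inv_eq_one] at h'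
        exact h'
    rw [e1, heq]
    constructor
    · intro h
      refine MonoidHom.ext fun c => ?_
      show (θ c) ^ (Fintype.card F - 1) = 1
      rw [← map_pow]
      exact h ⟨c, rfl⟩
    · rintro h _ ⟨c, rfl⟩
      show θ (c ^ (Fintype.card F - 1)) = 1
      rw [map_pow]
      exact DFunLike.congr_fun h c
  obtain ⟨e⟩ := CommGroup.monoidHom_mulEquiv_of_hasEnoughRootsOfUnity C ℂ
  haveI : IsCyclic (C →* ℂˣ) := isCyclic_of_surjective e.symm e.symm.surjective
  have hcount := IsCyclic.card_powMonoidHom_ker (G := C →* ℂˣ) (Fintype.card F - 1)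
  rw [Nat.card_congr e.toEquiv, hgcd] at hcount
  refine Eq.trans ?_ hcount
  rw [← Nat.card_eq_finsetCard]
  exact Nat.card_congr (Equiv.subtypeEquivRight fun θ => by
    simp only [Finset.mem_filter, Finset.mem_univ, true_and, MonoidHom.mem_ker, powMonoidHom_apply]
    exact hiff θ)

/-- Characters of `C` moved by the conjugation. -/
noncomputable def dsDom : Finset (C →* ℂˣ) :=
  Finset.univ.filter fun θ => twist C hC hZ θ ≠ θ

/-- The cuspidal characters. -/
noncomputable def dsImg : Finset (GL2 → ℂ) := (dsDom C hC hZ).image (ds C hZ)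

theorem mem_dsImg {f : GL2 → ℂ} :
    f ∈ dsImg C hC hZ ↔ ∃ θ : C →* ℂˣ, twist C hC hZ θ ≠ θ ∧ ds C hZ θ = f := by
  simp [dsImg, dsDom]

include hcard in
theorem two_card_dsImg : 2 * (dsImg C hC hZ).card = Fintype.card F * (Fintype.card F - 1) := by
  rw [dsImg, two_mul_card_image _ _ (twist C hC hZ)]
  · have h0 : ((dsDom C hC hZ).filter fun θ => twist C hC hZ θ = θ) = ∅ :=
      Finset.filter_eq_empty_iff.mpr fun θ hθ => (Finset.mem_filter.mp hθ).2
    rw [h0, Finset.card_empty, add_zero]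
    have h := Finset.card_filter_add_card_filter_not (s := (Finset.univ : Finset (C →* ℂˣ)))
      (fun θ => twist C hC hZ θ = θ)
    rw [card_fixed C hC hcard hZ, Finset.card_univ, card_torusDual C hcard hC] at h
    have hd : (dsDom C hC hZ).card =
        ((Finset.univ : Finset (C →* ℂˣ)).filter fun θ => ¬ twist C hC hZ θ = θ).card :=
      congrArg Finset.card (Finset.ext fun θ => by simp [dsDom])
    rw [hd]
    obtain ⟨k, hk⟩ : ∃ k, Fintype.card F = k + 1 :=
      ⟨Fintype.card F - 1, by have := Fintype.card_pos (α := F); omega⟩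
    rw [hk] at h ⊢
    have e1 : (k + 1) ^ 2 = k * k + 2 * k + 1 := by ring
    have e2 : (k + 1) * k = k * k + k := by ring
    simp only [Nat.add_sub_cancel] at h ⊢
    omega
  · intro θ hθ
    simp only [dsDom, Finset.mem_filter, Finset.mem_univ, true_and] at hθ ⊢
    rw [twist_twist]
    exact Ne.symm hθ
  · intro θ hθ θ' _
    exact ds_eq_iff C hC hcard hZ (Finset.mem_filter.mp hθ).2

/-- All irreducible characters. -/
noncomputable def allSet : Finset (GL2 → ℂ) :=
  Finset.univ.image lam ∪ Finset.univ.image st ∪ psImg F ∪ dsImg C hC hZ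

theorem mem_allSet {f : GL2 → ℂ} : f ∈ allSet C hC hZ ↔
    (∃ l, lam l = f) ∨ (∃ l, st l = f) ∨ (∃ α β : MulChar F ℂ, α ≠ β ∧ ps α β = f) ∨
      (∃ θ : C →* ℂˣ, twist C hC hZ θ ≠ θ ∧ ds C hZ θ = f) := by
  simp [allSet, mem_psImg, mem_dsImg, or_assoc]

include hcard in
theorem isIrr_allSet {f : GL2 → ℂ} (hf : f ∈ allSet C hC hZ) : IsIrrCharacter GL2 f := by
  rcases (mem_allSet C hC hZ).mp hf with ⟨l, rfl⟩ | ⟨l, rfl⟩ | ⟨α, β, h, rfl⟩ | ⟨θ, h, rfl⟩
  exacts [isIrr_lam l, isIrr_st l, isIrr_ps h, isIrr_ds C hC hcard hZ h]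

include hcard in
theorem allSet_sum_sq : ∑ f ∈ allSet C hC hZ, f 1 ^ 2 = (Nat.card GL2 : ℂ) := by
  have hu : ∀ f ∈ Finset.univ.image (lam : MulChar F ℂ → GL2 → ℂ),
      f 1 = 1 ∧ f (bor 1 1 1) = 1 := by
    intro f hf
    obtain ⟨l, -, rfl⟩ := Finset.mem_image.mp hf
    exact ⟨lam_one l, by rw [lam_bor]; simp⟩
  have hs : ∀ f ∈ Finset.univ.image (st : MulChar F ℂ → GL2 → ℂ),
      f 1 = qC ∧ f (bor 1 1 1) = 0 := by
    intro f hf
    obtain ⟨l, -, rfl⟩ := Finset.mem_image.mp hf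
    exact ⟨st_one l, st_bor_unip l 1 one_ne_zero⟩
  have hp : ∀ f ∈ psImg F, f 1 = qC + 1 ∧ f (bor 1 1 1) = 1 := by
    intro f hf
    obtain ⟨α, β, -, rfl⟩ := mem_psImg.mp hf
    exact ⟨ps_one α β, by rw [ps_bor_unip α β 1 one_ne_zero]; simp⟩
  have hd : ∀ f ∈ dsImg C hC hZ, f 1 = qC - 1 ∧ f (bor 1 1 1) = -1 := by
    intro f hf
    obtain ⟨θ, -, rfl⟩ := (mem_dsImg C hC hZ).mp hf
    exact ⟨ds_one C hcard hZ θ, by rw [ds_bor_unip C hC hcard hZ θ 1 one_ne_zero]; simp⟩
  have d1 : Disjoint (Finset.univ.image (lam : MulChar F ℂ → GL2 → ℂ)) (Finset.univ.image st) := by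
    rw [Finset.disjoint_left]
    intro f h h'
    exact zero_ne_one ((hs f h').2.symm.trans (hu f h).2)
  have d2 : Disjoint (Finset.univ.image (lam : MulChar F ℂ → GL2 → ℂ) ∪ Finset.univ.image st)
      (psImg F) := by
    rw [Finset.disjoint_left]
    intro f h h'
    rcases Finset.mem_union.mp h with h | h
    · have := (hp f h').1.symm.trans (hu f h).1
      exact qC_ne (F := F) (by linear_combination this)
    · exact zero_ne_one ((hs f h).2.symm.trans (hp f h').2)
  have d3 : Disjoint (Finset.univ.image (lam : MulChar F ℂ → GL2 → ℂ) ∪ Finset.univ.image st ∪ psImg F)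
      (dsImg C hC hZ) := by
    rw [Finset.disjoint_left]
    intro f h h'
    have e := (hd f h').2
    simp only [Finset.mem_union] at h
    rcases h with (h | h) | h
    · rw [(hu f h).2] at e; norm_num at e
    · rw [(hs f h).2] at e; norm_num at e
    · rw [(hp f h).2] at e; norm_num at e
  rw [allSet, Finset.sum_union d3, Finset.sum_union d2, Finset.sum_union d1,
    Finset.sum_congr rfl (fun f hf => by rw [(hu f hf).1]),
    Finset.sum_congr (f := fun f : GL2 → ℂ => f 1 ^ 2) (s₁ := Finset.univ.image st) rfl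
      (fun f hf => by rw [(hs f hf).1]),
    Finset.sum_congr (f := fun f : GL2 → ℂ => f 1 ^ 2) (s₁ := psImg F) rfl
      (fun f hf => by rw [(hp f hf).1]),
    Finset.sum_congr (f := fun f : GL2 → ℂ => f 1 ^ 2) (s₁ := dsImg C hC hZ) rfl
      (fun f hf => by rw [(hd f hf).1]),
    Finset.sum_const, Finset.sum_const, Finset.sum_const, Finset.sum_const,
    Finset.card_image_of_injective _ lam_injective, Finset.card_image_of_injective _ st_injective,
    Finset.card_univ, card_mulChar, card_GL_cast]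
  have hq := Fintype.one_lt_card (α := F)
  have h1 : 2 * ((psImg F).card : ℂ) = (qC - 1) * (qC - 2) := by
    have h := congrArg (Nat.cast (R := ℂ)) (two_card_psImg (F := F))
    rw [Nat.cast_mul, Nat.cast_mul, Nat.cast_sub (by omega), Nat.cast_sub (by omega)] at h
    push_cast at h
    exact h
  have h2 : 2 * ((dsImg C hC hZ).card : ℂ) = qC * (qC - 1) := by
    have h := congrArg (Nat.cast (R := ℂ)) (two_card_dsImg C hC hcard hZ)
    rw [Nat.cast_mul, Nat.cast_mul, Nat.cast_sub (by omega)] at h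
    push_cast at h
    exact h
  simp only [nsmul_eq_mul, Nat.cast_sub (show 1 ≤ Fintype.card F by omega)]
  push_cast
  linear_combination (qC + 1) ^ 2 / 2 * h1 + (qC - 1) ^ 2 / 2 * h2

include hcard in
theorem irr_cases {χ : GL2 → ℂ} (hχ : IsIrrCharacter GL2 χ) :
    (∃ l, χ = lam l ∧ χ 1 = 1) ∨ (∃ l, χ = st l ∧ χ 1 = qC) ∨
      (∃ α β : MulChar F ℂ, α ≠ β ∧ χ = ps α β ∧ χ 1 = qC + 1) ∨
      (∃ θ : C →* ℂˣ, twist C hC hZ θ ≠ θ ∧ χ = ds C hZ θ ∧ χ 1 = qC - 1) := by
  have hm := mem_of_sum_sq _ (fun f hf => isIrr_allSet C hC hcard hZ hf)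
    (allSet_sum_sq C hC hcard hZ) hχ
  rcases (mem_allSet C hC hZ).mp hm with ⟨l, rfl⟩ | ⟨l, rfl⟩ | ⟨α, β, h, rfl⟩ | ⟨θ, h, rfl⟩
  · exact Or.inl ⟨l, rfl, lam_one l⟩
  · exact Or.inr (Or.inl ⟨l, rfl, st_one l⟩)
  · exact Or.inr (Or.inr (Or.inl ⟨α, β, h, rfl, ps_one α β⟩))
  · exact Or.inr (Or.inr (Or.inr ⟨θ, h, rfl, ds_one C hcard hZ θ⟩))

theorem cast_ne_cast {m n : ℕ} (h : m ≠ n) : (m : ℂ) ≠ (n : ℂ) := fun e => h (natCast_inj' e)

include hC hcard hZ in
theorem eq_st_of_degree {χ : GL2 → ℂ} (hχ : IsIrrCharacter GL2 χ) (hd : χ 1 = qC) :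
    ∃ l, χ = st l := by
  have hq := Fintype.one_lt_card (α := F)
  rcases irr_cases C hC hcard hZ hχ with ⟨l, -, h⟩ | ⟨l, h, -⟩ | ⟨α, β, -, -, h⟩ | ⟨θ, -, -, h⟩
  · rw [hd] at h
    exact absurd (by rw [h, Nat.cast_one]) (cast_ne_cast (show Fintype.card F ≠ 1 by omega))
  · exact ⟨l, h⟩
  · rw [hd] at h; exact absurd (by linear_combination h : (0 : ℂ) = 1) zero_ne_one
  · rw [hd] at h; exact absurd (by linear_combination -h : (0 : ℂ) = 1) zero_ne_one

include hC hcard hZ in
theorem eq_ps_of_degree {χ : GL2 → ℂ} (hχ : IsIrrCharacter GL2 χ) (hd : χ 1 = qC + 1) :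
    ∃ α β : MulChar F ℂ, α ≠ β ∧ χ = ps α β := by
  rcases irr_cases C hC hcard hZ hχ with ⟨l, -, h⟩ | ⟨l, -, h⟩ | ⟨α, β, hne, h, -⟩ | ⟨θ, -, -, h⟩
  · rw [hd] at h; exact absurd (by linear_combination h : qC = 0) (qC_ne (F := F))
  · rw [hd] at h; exact absurd (by linear_combination h : (1 : ℂ) = 0) one_ne_zero
  · exact ⟨α, β, hne, h⟩
  · rw [hd] at h; exact absurd (by linear_combination h / 2 : (1 : ℂ) = 0) one_ne_zero

include hcard in
theorem eq_ds_of_degree {χ : GL2 → ℂ} (hχ : IsIrrCharacter GL2 χ) (hd : χ 1 = qC - 1) :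
    (∃ θ : C →* ℂˣ, twist C hC hZ θ ≠ θ ∧ χ = ds C hZ θ) ∨
      (Fintype.card F = 2 ∧ ∃ l, χ = lam l) := by
  rcases irr_cases C hC hcard hZ hχ with ⟨l, h', h⟩ | ⟨l, -, h⟩ | ⟨α, β, -, -, h⟩ | ⟨θ, hθ, h, -⟩
  · rw [hd] at h
    exact Or.inr ⟨natCast_inj' (n := 2) (by push_cast; linear_combination h), l, h'⟩
  · rw [hd] at h; exact absurd (by linear_combination -h : (1 : ℂ) = 0) one_ne_zero
  · rw [hd] at h; exact absurd (by linear_combination -h / 2 : (1 : ℂ) = 0) one_ne_zero
  · exact Or.inl ⟨θ, hθ, h⟩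

include hC hcard hZ in
theorem eq_lam_of_degree (hq3 : 3 ≤ Fintype.card F) {χ : GL2 → ℂ} (hχ : IsIrrCharacter GL2 χ)
    (hd : χ 1 = 1) : ∃ l, χ = lam l := by
  rcases irr_cases C hC hcard hZ hχ with ⟨l, h, -⟩ | ⟨l, -, h⟩ | ⟨α, β, -, -, h⟩ | ⟨θ, -, -, h⟩
  · exact ⟨l, h⟩
  · rw [hd] at h
    exact absurd (by rw [Nat.cast_one, h]) (cast_ne_cast (show 1 ≠ Fintype.card F by omega))
  · rw [hd] at h; exact absurd (by linear_combination -h : qC = 0) (qC_ne (F := F))
  · rw [hd] at h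
    exact absurd (by push_cast; linear_combination -h) (cast_ne_cast (show Fintype.card F ≠ 2 by omega))

end Torus

theorem eq_bor_of_diag {g : GL2} (h01 : g.1 0 1 = 0) (h10 : g.1 1 0 = 0) (hne : g.1 0 0 ≠ g.1 1 1) :
    ∃ a b : Fˣ, a ≠ b ∧ g = bor a b 0 := by
  obtain ⟨a, b, x, ea, eb, ex, rfl⟩ := eq_bor_of_lower h10
  rw [h01] at ex
  subst ex
  exact ⟨a, b, fun h => hne (by rw [← ea, ← eb, h]), rfl⟩

theorem eq_bor_unip {u : GL2} (hu : u.1 = !![1, 1; 0, 1]) : u = bor 1 1 1 :=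
  Units.ext (by rw [hu, bor_coe]; simp)

end CfsgLib.GL2Char
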