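import Cfsg.Agent.Lib.GL2Char.Series

/-!
The cuspidal series of `GL₂(q)`: `ds θ = St · ps (θ|Z) 1 - ps (θ|Z) 1 - Ind_C θ`, with its values
and inner products.
-/

set_option autoImplicit false

namespace CfsgLib.GL2Char

open Matrix Cfsg CfsgLib.CharTheory
open scoped ComplexConjugate Classical
open CfsgLib.SL2Char (cl_eq indFun_central sum_units_mulChar conj_mulChar mulChar_mul_inv
  mulChar_inv_unit qC_ne qC_sub_ne qC_add_ne)

variable {F : Type*} [Field F] [Fintype F] [DecidableEq F]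

local notation "GL2" => Matrix.GeneralLinearGroup (Fin 2) F
local notation "qC" => (Fintype.card F : ℂ)

theorem qC_sq_sub_ne : qC ^ 2 - 1 ≠ 0 := by
  rw [show qC ^ 2 - 1 = (qC - 1) * (qC + 1) by ring]
  exact mul_ne_zero qC_sub_ne qC_add_ne

theorem mulChar_one_det (g : GL2) : (1 : MulChar F ℂ) g.1.det = 1 :=
  MulChar.one_apply (isUnit_iff_ne_zero.mpr (det_ne g))

theorem ell_bar {c : GL2} (hc : Ell c) : Ell (bar c) := by
  intro s
  rw [trace_bar, det_bar]
  exact hc s

theorem isConj_bar {c : GL2} (hc : Ell c) : IsConj c (bar c) :=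
  isConj_of_charpoly (not_scalar_of_ell hc) (not_scalar_of_ell (ell_bar hc)) (trace_bar c) (det_bar c)

/-- A sum of a character of a finite group against the conjugate of another. -/
theorem sum_hom_conj {A : Type*} [Group A] [Fintype A] (φ ψ : A →* ℂˣ) :
    ∑ a : A, ((φ a : ℂˣ) : ℂ) * conj ((ψ a : ℂˣ) : ℂ) =
      if φ = ψ then (Fintype.card A : ℂ) else 0 := by
  have e : ∀ a, ((φ a : ℂˣ) : ℂ) * conj ((ψ a : ℂˣ) : ℂ) = (((φ * ψ⁻¹) a : ℂˣ) : ℂ) := fun a => by
    rw [SL2Char.conj_hom, MonoidHom.mul_apply, MonoidHom.inv_apply, map_inv, Units.val_mul]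
  simp only [e]
  by_cases h : φ = ψ
  · subst h
    rw [if_pos rfl]
    simp
  · rw [if_neg h]
    have e' := sum_hom_units_eq_zero ((Units.coeHom ℂ).comp (φ * ψ⁻¹)) (fun he => h ?_)
    · simpa using e'
    · exact mul_inv_eq_one.mp (MonoidHom.ext fun c => Units.ext (DFunLike.congr_fun he c))

theorem st_one_real (g : GL2) : conj (st (1 : MulChar F ℂ) g) = st 1 g := by
  rcases elem_cases g with h | ⟨a, b, x, h⟩
  · rw [st_ell 1 h, mulChar_one_det]; simp
  · rw [cl_eq (st_classFun 1) h]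
    by_cases hab : a = b
    · subst hab
      by_cases hx : x = 0
      · subst hx; rw [st_bor_scalar]; simp
      · rw [st_bor_unip 1 a hx]; simp
    · rw [st_bor_ne 1 hab]; simp

theorem classInner_st_mul (A B : GL2 → ℂ) :
    classInner (st 1 * A) B = classInner A (st 1 * B) := by
  simp only [classInner, Pi.mul_apply, map_mul, st_one_real]
  congr 1
  exact Finset.sum_congr rfl fun g _ => by ring

section Torus

variable (C : Subgroup (Matrix.GeneralLinearGroup (Fin 2) F))
variable (hC : IsCyclic C) (hcard : Nat.card C = Fintype.card F ^ 2 - 1) (hZ : ∀ a : Fˣ, bor a a 0 ∈ C)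
variable (θ θ' : C →* ℂˣ)

theorem barC_scalar (a : Fˣ) : barC C hZ ⟨bor a a 0, hZ a⟩ = ⟨bor a a 0, hZ a⟩ :=
  Subtype.ext (bar_scalar a)

theorem barC_barC (c : C) : barC C hZ (barC C hZ c) = c := Subtype.ext (bar_bar c.1)

@[simp] theorem twist_apply (c : C) : twist C hC hZ θ c = θ (barC C hZ c) := rfl

theorem twist_twist : twist C hC hZ (twist C hC hZ θ) = θ :=
  MonoidHom.ext fun c => by rw [twist_apply, twist_apply, barC_barC]

/-- The function induced from the nonsplit torus. -/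
noncomputable def rc : GL2 → ℂ := indFun C fun c => ((θ c : ℂˣ) : ℂ)

theorem rc_classFun : IsClassFunction GL2 (rc C θ) := indFun_isClassFunction _ _

theorem isCharacter_rc : IsCharacter GL2 (rc C θ) :=
  isCharacter_indFun C (isCharacter_of_irr (isIrrCharacter_linear θ))

include hcard in
theorem card_torus_cast : (Nat.card C : ℂ) = qC ^ 2 - 1 := by
  rw [hcard, Nat.cast_sub (Nat.one_le_pow _ _ Fintype.card_pos)]
  simp

include hcard in
theorem index_torus : (C.index : ℂ) = qC * (qC - 1) := by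
  have h : (Nat.card C : ℂ) * (C.index : ℂ) = (Nat.card GL2 : ℂ) := by
    exact_mod_cast C.card_mul_index
  rw [card_torus_cast C hcard, card_GL_cast] at h
  apply mul_left_cancel₀ (qC_sq_sub_ne (F := F))
  rw [h]; ring

include hC hcard hZ in
theorem rc_bor_zero {a b : Fˣ} {x : F} (h : ¬ (a = b ∧ x = 0)) : rc C θ (bor a b x) = 0 := by
  simp only [rc, indFun]
  refine mul_eq_zero_of_right _ (Finset.sum_eq_zero fun y _ => ?_)
  rw [extendByZero_of_not_mem]
  intro hmem
  have hc : IsConj (bor a b x) (y⁻¹ * bor a b x * y) := isConj_iff.mpr ⟨y⁻¹, by rw [inv_inv]⟩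
  rcases torus_cases C hC hcard hZ hmem with he | ⟨e, hce⟩
  · exact not_ell_bor a b x (ell_of_isConj hc.symm he)
  · rw [hce] at hc
    obtain ⟨h1, h2, h3⟩ := bor_injective (scalar_conj_eq hc.symm)
    exact h ⟨h1.trans h2.symm, h3⟩

include hcard in
theorem rc_scalar (a : Fˣ) :
    rc C θ (bor a a 0) = qC * (qC - 1) * resZ C hZ θ (a : F) := by
  rw [rc, indFun_central C _ ⟨bor a a 0, hZ a⟩ (fun g => scalar_comm a g), index_torus C hcard,
    resZ_apply]

include hC hcard in
theorem rc_ell (c : C) (hc : Ell (c : GL2)) :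
    rc C θ c = ((θ c : ℂˣ) : ℂ) + ((θ (barC C hZ c) : ℂˣ) : ℂ) := by
  have hne : (c : GL2) ≠ bar (c : GL2) := Ne.symm (bar_ne hc)
  have hv : ∀ x : GL2, extendByZero C (fun c : C => ((θ c : ℂˣ) : ℂ)) (x⁻¹ * (c : GL2) * x) =
      ((θ c : ℂˣ) : ℂ) * (if x⁻¹ * (c : GL2) * x = c then 1 else 0) +
        ((θ (barC C hZ c) : ℂˣ) : ℂ) * (if x⁻¹ * (c : GL2) * x = bar (c : GL2) then 1 else 0) := by
    intro x
    by_cases hm : x⁻¹ * (c : GL2) * x ∈ C
    · rw [extendByZero_of_mem _ _ hm]
      have ht := trace_conj (c : GL2) x⁻¹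
      have hd := det_conj (c : GL2) x⁻¹
      rw [inv_inv] at ht hd
      rcases eq_or_bar C hC hcard hZ c.2 hc hm ht hd with h | h
      · rw [if_pos h, if_neg (fun h2 => hne (h.symm.trans h2)), mul_one, mul_zero, add_zero,
          show (⟨_, hm⟩ : C) = c from Subtype.ext h]
      · rw [if_pos h, if_neg (fun h2 => hne (h2.symm.trans h)), mul_one, mul_zero, zero_add,
          show (⟨_, hm⟩ : C) = barC C hZ c from Subtype.ext h]
    · rw [extendByZero_of_not_mem _ _ hm, if_neg, if_neg, mul_zero, mul_zero, add_zero]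
      · exact fun h => hm (h.symm ▸ bar_mem C hZ c.2)
      · exact fun h => hm (h.symm ▸ c.2)
  have hcount : ∀ d : GL2, IsConj (c : GL2) d →
      (∑ x : GL2, if x⁻¹ * (c : GL2) * x = d then (1 : ℂ) else 0) = qC ^ 2 - 1 := by
    intro d hd
    obtain ⟨y, hy⟩ := isConj_iff.mp hd.symm
    have : (∑ x : GL2, if x⁻¹ * (c : GL2) * x = d then (1 : ℂ) else 0) =
        (Nat.card (Subgroup.centralizer ({(c : GL2)} : Set GL2)) : ℂ) := by
      rw [Finset.sum_boole, ← Fintype.card_subtype, ← Nat.card_eq_fintype_card]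
      refine congrArg _ (Nat.card_congr (Equiv.subtypeEquiv (Equiv.mulRight y⁻¹) fun x => ?_))
      rw [Equiv.coe_mulRight, Subgroup.mem_centralizer_singleton_iff, ← hy]
      constructor
      · intro h
        calc x * y⁻¹ * (y * d * y⁻¹) = x * d * y⁻¹ := by group
          _ = x * (x⁻¹ * (y * d * y⁻¹) * x) * y⁻¹ := by rw [h]
          _ = y * d * y⁻¹ * (x * y⁻¹) := by group
      · intro h
        calc x⁻¹ * (y * d * y⁻¹) * x = x⁻¹ * (y * d * y⁻¹ * (x * y⁻¹)) * y := by group
          _ = x⁻¹ * (x * y⁻¹ * (y * d * y⁻¹)) * y := by rw [h]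
          _ = d := by group
    rw [this, centralizer_eq C hC hcard hZ c.2 hc, card_torus_cast C hcard]
  simp only [rc, indFun, hv, Finset.sum_add_distrib, ← Finset.mul_sum,
    hcount _ (IsConj.refl _), hcount _ (isConj_bar hc), card_torus_cast C hcard]
  have := qC_sq_sub_ne (F := F)
  field_simp

/-- The cuspidal function. -/
noncomputable def ds : GL2 → ℂ := st 1 * ps (resZ C hZ θ) 1 - ps (resZ C hZ θ) 1 - rc C θ

theorem ds_classFun : IsClassFunction GL2 (ds C hZ θ) :=
  isClassFunction_sub (isClassFunction_sub (isClassFunction_mul (st_classFun 1) (ps_classFun _ 1))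
    (ps_classFun _ 1)) (rc_classFun C θ)

theorem isGenChar_ds : IsGeneralizedCharacter GL2 (ds C hZ θ) :=
  isGenChar_sub (isGenChar_sub (isGenChar_mul (isGenChar_of_char (isCharacter_of_irr (isIrr_st 1)))
    (isGenChar_of_char (isCharacter_ps _ 1))) (isGenChar_of_char (isCharacter_ps _ 1)))
    (isGenChar_of_char (isCharacter_rc C θ))

include hC hcard in
theorem ds_bor_ne {a b : Fˣ} (hab : a ≠ b) (x : F) : ds C hZ θ (bor a b x) = 0 := by
  simp only [ds, Pi.sub_apply, Pi.mul_apply, st_bor_ne 1 hab,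
    rc_bor_zero C hC hcard hZ θ (fun h => hab h.1), MulChar.one_apply_coe]
  ring

include hC hcard in
theorem ds_bor_unip (a : Fˣ) {x : F} (hx : x ≠ 0) :
    ds C hZ θ (bor a a x) = -resZ C hZ θ (a : F) := by
  simp only [ds, Pi.sub_apply, Pi.mul_apply, st_bor_unip 1 a hx, ps_bor_unip _ 1 a hx,
    rc_bor_zero C hC hcard hZ θ (fun h => hx h.2), MulChar.one_apply_coe]
  ring

include hcard in
theorem ds_bor_scalar (a : Fˣ) :
    ds C hZ θ (bor a a 0) = (qC - 1) * resZ C hZ θ (a : F) := by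
  simp only [ds, Pi.sub_apply, Pi.mul_apply, st_bor_scalar, ps_bor_scalar, rc_scalar C hcard hZ,
    MulChar.one_apply_coe]
  ring

include hC hcard in
theorem ds_ell (c : C) (hc : Ell (c : GL2)) :
    ds C hZ θ c = -(((θ c : ℂˣ) : ℂ) + ((θ (barC C hZ c) : ℂˣ) : ℂ)) := by
  simp only [ds, Pi.sub_apply, Pi.mul_apply, ps_ell _ _ hc, rc_ell C hC hcard hZ θ c hc]
  ring

include hcard in
theorem ds_one : ds C hZ θ 1 = qC - 1 := by
  rw [← bor_one, ds_bor_scalar C hcard hZ]; simp

include hC hcard in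
theorem ds_bsum (a b : Fˣ) : ∑ x : F, ds C hZ θ (bor a b x) = 0 := by
  by_cases hab : a = b
  · subst hab
    rw [Finset.sum_eq_add_sum_sdiff_singleton_of_mem (Finset.mem_univ (0 : F)),
      ds_bor_scalar C hcard hZ,
      Finset.sum_congr rfl (fun x hx => ds_bor_unip C hC hcard hZ θ a (by simpa using hx)),
      Finset.sum_const, Finset.card_sdiff_of_subset (Finset.subset_univ _), Finset.card_singleton,
      Finset.card_univ, nsmul_eq_mul, Nat.cast_sub Fintype.card_pos]
    push_cast; ring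
  · simp only [ds_bor_ne C hC hcard hZ θ hab, Finset.sum_const_zero]

include hC hcard in
theorem classInner_ps_ds (β γ : MulChar F ℂ) : classInner (ps β γ) (ds C hZ θ) = 0 := by
  rw [classInner_ps β γ (ds_classFun C hZ θ)]
  simp only [ds_bsum C hC hcard hZ, map_zero, mul_zero, Finset.sum_const_zero]

include hC hcard in
theorem ds_apply_mem (c : C) :
    ds C hZ θ c = (if Ell (c : GL2) then 0 else (qC + 1) * ((θ c : ℂˣ) : ℂ)) -
      (((θ c : ℂˣ) : ℂ) + ((twist C hC hZ θ c : ℂˣ) : ℂ)) := by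
  rcases torus_cases C hC hcard hZ c.2 with hc | ⟨a, hca⟩
  · rw [if_pos hc, ds_ell C hC hcard hZ θ c hc, twist_apply, zero_sub]
  · obtain rfl : c = ⟨bor a a 0, hZ a⟩ := Subtype.ext hca
    rw [if_neg (not_ell_bor a a 0), ds_bor_scalar C hcard hZ, twist_apply, barC_scalar, resZ_apply]
    ring

include hC hcard in
/-- A sum over the torus, restricted to the scalars. -/
theorem sum_torus_scalar (h : C → ℂ) :
    ∑ c : C, (if Ell (c : GL2) then 0 else h c) = ∑ a : Fˣ, h ⟨bor a a 0, hZ a⟩ := by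
  rw [← Finset.sum_filter_add_sum_filter_not Finset.univ (fun c : C => Ell (c : GL2)),
    Finset.sum_eq_zero (fun c hc => if_pos (Finset.mem_filter.mp hc).2), zero_add]
  refine (Finset.sum_bij (fun a _ => (⟨bor a a 0, hZ a⟩ : C))
    (fun a _ => Finset.mem_filter.mpr ⟨Finset.mem_univ _, not_ell_bor a a 0⟩)
    (fun a _ b _ hab => (bor_injective (congrArg Subtype.val hab)).1)
    (fun c hc => ?_) (fun a _ => ?_)).symm
  · obtain ⟨a, hca⟩ := (torus_cases C hC hcard hZ c.2).resolve_left (Finset.mem_filter.mp hc).2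
    exact ⟨a, Finset.mem_univ _, Subtype.ext hca.symm⟩
  · rw [if_neg (not_ell_bor a a 0)]

include hC hcard in
theorem classInner_ps_st_ds :
    classInner (ps (resZ C hZ θ) 1) (st 1 * ds C hZ θ') =
      if resZ C hZ θ = resZ C hZ θ' then 1 else 0 := by
  set α := resZ C hZ θ
  set α' := resZ C hZ θ' with hα'
  rw [classInner_ps α 1 (isClassFunction_mul (st_classFun 1) (ds_classFun C hZ θ'))]
  have e : ∀ a b : Fˣ, α (a : F) * (1 : MulChar F ℂ) (b : F) *
      conj (∑ x : F, (st 1 * ds C hZ θ' : GL2 → ℂ) (bor a b x)) =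
      if a = b then (qC - 1) * qC * (α * α'⁻¹) (a : F) else 0 := by
    intro a b
    by_cases hab : a = b
    · subst hab
      rw [if_pos rfl, Finset.sum_eq_single (0 : F) (fun x _ hx => by
          rw [Pi.mul_apply, st_bor_unip 1 a hx, zero_mul]) (fun h => absurd (Finset.mem_univ _) h),
        Pi.mul_apply, st_bor_scalar, ds_bor_scalar C hcard hZ, MulChar.one_apply_coe, ← hα',
        MulChar.mul_apply, mulChar_inv_unit]
      simp only [map_mul, map_sub, map_one, Complex.conj_natCast, conj_mulChar]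
      ring
    · rw [if_neg hab]
      simp only [Pi.mul_apply, ds_bor_ne C hC hcard hZ θ' hab, mul_zero, Finset.sum_const_zero, map_zero]
  simp only [e, Finset.sum_ite_eq, Finset.mem_univ, if_true, ← Finset.mul_sum, sum_units_mulChar,
    mul_inv_eq_one]
  have := qC_ne (F := F); have := qC_sub_ne (F := F)
  split_ifs <;> field_simp <;> ring

include hC hcard in
theorem classInner_rc_ds :
    classInner (rc C θ) (ds C hZ θ') = (if resZ C hZ θ = resZ C hZ θ' then 1 else 0) -
      (if θ = θ' then 1 else 0) - (if θ = twist C hC hZ θ' then 1 else 0) := by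
  rw [rc, frobenius_reciprocity C _ (ds_classFun C hZ θ'), classInner]
  have hsplit : ∀ c : C, ((θ c : ℂˣ) : ℂ) * conj (ds C hZ θ' c) =
      (if Ell (c : GL2) then 0 else (qC + 1) * (((θ c : ℂˣ) : ℂ) * conj ((θ' c : ℂˣ) : ℂ))) -
        (((θ c : ℂˣ) : ℂ) * conj ((θ' c : ℂˣ) : ℂ) +
          ((θ c : ℂˣ) : ℂ) * conj ((twist C hC hZ θ' c : ℂˣ) : ℂ)) := by
    intro c
    rw [ds_apply_mem C hC hcard hZ θ' c]
    split_ifs <;>
      simp only [map_sub, map_add, map_zero, map_mul, map_one, Complex.conj_natCast] <;> ring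
  have hS : ∑ a : Fˣ, (qC + 1) *
      (((θ ⟨bor a a 0, hZ a⟩ : ℂˣ) : ℂ) * conj ((θ' ⟨bor a a 0, hZ a⟩ : ℂˣ) : ℂ)) =
      (qC + 1) * (if resZ C hZ θ = resZ C hZ θ' then qC - 1 else 0) := by
    rw [← Finset.mul_sum]
    congr 1
    have e : ∀ a : Fˣ, ((θ ⟨bor a a 0, hZ a⟩ : ℂˣ) : ℂ) * conj ((θ' ⟨bor a a 0, hZ a⟩ : ℂˣ) : ℂ) =
        (resZ C hZ θ * (resZ C hZ θ')⁻¹) (a : F) := fun a => by
      rw [MulChar.mul_apply, mulChar_inv_unit, ← conj_mulChar, resZ_apply, resZ_apply]
    simp only [e, sum_units_mulChar, mul_inv_eq_one]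
  simp only [hsplit, Finset.sum_sub_distrib, Finset.sum_add_distrib, sum_hom_conj,
    sum_torus_scalar C hC hcard hZ, hS]
  rw [card_torus_cast C hcard, show (Fintype.card C : ℂ) = qC ^ 2 - 1 by
    rw [← Nat.card_eq_fintype_card (α := C), card_torus_cast C hcard]]
  have := qC_sq_sub_ne (F := F)
  split_ifs <;> field_simp <;> ring

include hC hcard in
theorem classInner_ds_ds :
    classInner (ds C hZ θ) (ds C hZ θ') =
      (if θ = θ' then 1 else 0) + (if θ = twist C hC hZ θ' then 1 else 0) := by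
  rw [show ds C hZ θ = st 1 * ps (resZ C hZ θ) 1 - ps (resZ C hZ θ) 1 - rc C θ from rfl,
    classInner_sub_left, classInner_sub_left, classInner_st_mul,
    classInner_ps_st_ds C hC hcard hZ θ θ', classInner_ps_ds C hC hcard hZ θ',
    classInner_rc_ds C hC hcard hZ θ θ']
  ring

include hC hcard in
theorem isIrr_ds {θ : C →* ℂˣ} (h : twist C hC hZ θ ≠ θ) : IsIrrCharacter GL2 (ds C hZ θ) := by
  refine irr_of_norm_one (isGenChar_ds C hZ θ) ?_ ?_
  · rw [classInner_ds_ds C hC hcard hZ, if_pos rfl, if_neg (Ne.symm h), add_zero]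
  · show (0 : ℝ) < (ds C hZ θ (1 : GL2)).re
    rw [ds_one C hcard hZ, Complex.sub_re, Complex.natCast_re, Complex.one_re, sub_pos]
    exact_mod_cast Fintype.one_lt_card (α := F)

include hC hcard in
theorem ds_twist : ds C hZ (twist C hC hZ θ) = ds C hZ θ := by
  have hres : resZ C hZ (twist C hC hZ θ) = resZ C hZ θ := MulChar.ext fun a => by
    rw [resZ_apply, resZ_apply, twist_apply, barC_scalar]
  refine funext fun g => ?_
  rcases elem_cases g with hg | ⟨a, b, x, hg⟩
  · obtain ⟨c, hc, he, hconj⟩ := exists_conj_mem C hC hcard hZ hg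
    rw [cl_eq (ds_classFun C hZ _) hconj, cl_eq (ds_classFun C hZ θ) hconj]
    show ds C hZ (twist C hC hZ θ) ((⟨c, hc⟩ : C) : GL2) = ds C hZ θ ((⟨c, hc⟩ : C) : GL2)
    rw [ds_ell C hC hcard hZ _ _ he, ds_ell C hC hcard hZ _ _ he, twist_apply, twist_apply,
      barC_barC, add_comm]
  · rw [cl_eq (ds_classFun C hZ _) hg, cl_eq (ds_classFun C hZ θ) hg]
    by_cases hab : a = b
    · subst hab
      by_cases hx : x = 0
      · subst hx; rw [ds_bor_scalar C hcard hZ, ds_bor_scalar C hcard hZ, hres]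
      · rw [ds_bor_unip C hC hcard hZ _ a hx, ds_bor_unip C hC hcard hZ _ a hx, hres]
    · rw [ds_bor_ne C hC hcard hZ _ hab, ds_bor_ne C hC hcard hZ _ hab]

include hC hcard in
theorem ds_eq_iff {θ θ' : C →* ℂˣ} (h : twist C hC hZ θ ≠ θ) :
    ds C hZ θ = ds C hZ θ' ↔ θ' = θ ∨ θ' = twist C hC hZ θ := by
  constructor
  · intro e
    by_contra hne
    push Not at hne
    have h1 : classInner (ds C hZ θ) (ds C hZ θ') = 1 := by
      rw [← e]; exact classInner_irr_self (isIrr_ds C hC hcard hZ h)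
    rw [classInner_ds_ds C hC hcard hZ, if_neg (Ne.symm hne.1),
      if_neg (fun e' => hne.2 (by rw [e', twist_twist])), add_zero] at h1
    exact zero_ne_one h1
  · rintro (rfl | rfl)
    · rfl
    · exact (ds_twist C hC hcard hZ θ).symm

end Torus

end CfsgLib.GL2Char
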